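import Groth.Agent.CycLib.PB.Main
import Groth.Agent.GrassShLib.Proper
import Groth.Agent.GrassShLib.Props
import Groth.Agent.GrassShLib.Flag

/-! # Projective bundle settings from the universal property -/

set_option autoImplicit false
set_option backward.isDefEq.respectTransparency false
set_option linter.style.haveILetI false

universe u

open CategoryTheory CategoryTheory.Limits AlgebraicGeometry TopologicalSpace
open Groth.Agent.PullbackMod

noncomputable section

namespace Groth.Agent.CycLib.PB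

open AffBundle (polySpec Idx)

variable {K : Type u} [Field K] {n : ℕ} {Z : Scheme.{u}} {q : Z ⟶ Spec (CommRingCat.of K)} {L : Z.Modules}

/-- The stalk map of an isomorphism of modules. -/
theorem bijective_stalkLin {L' : Z.Modules} (e : L ≅ L') (z : Z) : Function.Bijective (stalkLin e.hom z) :=
  (isIso_iff_stalk e.hom).1 inferInstance z

/-- Projective space data along an isomorphism of modules. -/
def PFib.ofModIso (Φ : PFib q L n) {L' : Z.Modules} (e : L ≅ L') : PFib q L' n where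
  g := Φ.g
  open_g := Φ.open_g
  over_g := Φ.over_g
  cover := Φ.cover
  σ j z := stalkLin e.hom z (Φ.σ j z)
  σ_sp j {a b} h := by rw [stalkSpecializes_stalkLin, Φ.σ_sp]
  gen i z := by
    rw [Φ.gen i z]
    have h : (fun c : Z.presheaf.stalk z => c • stalkLin e.hom z (Φ.σ i z)) =
        stalkLin e.hom z ∘ fun c => c • Φ.σ i z := funext fun c => (LinearMap.map_smul _ c _).symm
    rw [h]
    exact ⟨fun hb => (bijective_stalkLin e z).comp hb, fun hb =>
      (Function.Bijective.of_comp_iff' (bijective_stalkLin e z) _).1 hb⟩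
  rel i j y := by
    obtain ⟨a, h1, h2⟩ := Φ.rel i j y
    exact ⟨a, by rw [h1, LinearMap.map_smul], h2⟩

theorem stalkMap_key {A B : Scheme.{u}} {f f' : A ⟶ B} (h : f = f') (y : A) {C : Type u}
    (P : ∀ (g : A ⟶ B), (B.presheaf.stalk (g y) → A.presheaf.stalk y) → Prop) (h0 : P f (f.stalkMap y)) :
    P f' (f'.stalkMap y) := by subst h; exact h0

/-- Projective space data along an isomorphism of schemes. -/
def PFib.ofIso (Φ : PFib q L n) {Z' : Scheme.{u}} (e : Z' ≅ Z) {q' : Z' ⟶ Spec (CommRingCat.of K)}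
    (he : e.hom ≫ q = q') (hL : PicF.IsInvertible L) :
    PFib q' ((Scheme.Modules.pullback e.hom).obj L) n where
  g i := Φ.g i ≫ e.inv
  open_g i := by haveI := Φ.open_g i; infer_instance
  over_g i := by rw [← he, Category.assoc, e.inv_hom_id_assoc, Φ.over_g]
  cover z := by
    obtain ⟨i, y, hy⟩ := Φ.cover (e.hom z)
    refine ⟨i, y, ?_⟩
    show e.inv (Φ.g i y) = z
    rw [hy, ← Scheme.Hom.comp_apply, e.hom_inv_id]
    rfl
  σ j z := pullStalk e.hom L z (Φ.σ j (e.hom z))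
  σ_sp j {a b} h := by rw [stalkSpecializes_pullStalk, Φ.σ_sp]
  gen i z := by
    haveI := InvExt.isQCoh_of_isInvertible hL
    have hmem : z ∈ Set.range (Φ.g i ≫ e.inv) ↔ e.hom z ∈ Set.range (Φ.g i) := by
      constructor
      · rintro ⟨y, rfl⟩
        exact ⟨y, by rw [← Scheme.Hom.comp_apply, Category.assoc, e.inv_hom_id, Category.comp_id]⟩
      · rintro ⟨y, hy⟩
        refine ⟨y, ?_⟩
        show e.inv (Φ.g i y) = z
        rw [hy, ← Scheme.Hom.comp_apply, e.hom_inv_id]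
        rfl
    rw [hmem, Φ.gen i]
    refine ⟨fun h => ProjBundleLib.bijective_pullStalk_gen e.hom z h, fun h => ?_⟩
    obtain ⟨j, hj⟩ := Φ.cover (e.hom z)
    have hj' := (Φ.gen j _).1 hj
    obtain ⟨c, hc⟩ := hj'.2 (Φ.σ i (e.hom z))
    change c • Φ.σ j (e.hom z) = _ at hc
    rw [← hc, pullStalk_smul, AmpleLib.bijective_smul_iff (ProjBundleLib.bijective_pullStalk_gen e.hom z hj')] at h
    rw [← hc, AmpleLib.bijective_smul_iff hj']
    exact isUnit_of_map_unit (e.hom.stalkMap z).hom c h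
  rel i j y := by
    have he' : (Φ.g i ≫ e.inv) ≫ e.hom = Φ.g i := by rw [Category.assoc, e.inv_hom_id, Category.comp_id]
    have key : ∀ (f : polySpec.{u} n K ⟶ Z), Φ.g i = f → ∃ a : Z.presheaf.stalk (f y),
        Φ.σ j (f y) = a • Φ.σ i (f y) ∧
          f.stalkMap y a = StructureSheaf.toStalk (MvPolynomial (Idx.{u} n) K) y (cpoly i j) := by
      rintro f rfl
      exact Φ.rel i j y
    obtain ⟨a, h1, h2⟩ := key _ he'.symm
    refine ⟨e.hom.stalkMap _ a, ?_, ?_⟩
    · show pullStalk e.hom L ((Φ.g i ≫ e.inv) y) (Φ.σ j (e.hom ((Φ.g i ≫ e.inv) y))) =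
        _ • pullStalk e.hom L ((Φ.g i ≫ e.inv) y) (Φ.σ i (e.hom ((Φ.g i ≫ e.inv) y)))
      rw [← pullStalk_smul]
      exact congrArg _ h1
    · exact (congrArg (fun φ => φ a) (Scheme.Hom.stalkMap_comp (Φ.g i ≫ e.inv) e.hom y)).symm.trans h2

variable {X P : Scheme.{u}} {p : P ⟶ X} {O1 : P.Modules} {δP : P → ℤ} {δ : X → ℤ}

theorem fib_of_iso {P₀ : Scheme.{u}} {p₀ : P₀ ⟶ X} {O₀ : P₀.Modules} (h : P ⟶ P₀) [IsIso h] (hh : h ≫ p₀ = p)
    (τ : (Scheme.Modules.pullback h).obj O₀ ≅ O1) (hO : PicF.IsInvertible O₀) (x : X)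
    (Φ : PFib (K := X.residueField x) (p₀.fiberToSpecResidueField x)
      ((Scheme.Modules.pullback (p₀.fiberι x)).obj O₀) n) :
    Nonempty (PFib (K := X.residueField x) (p.fiberToSpecResidueField x)
      ((Scheme.Modules.pullback (p.fiberι x)).obj O1) n) := by
  let a : p.fiber x ⟶ p₀.fiber x := pullback.map p (X.fromSpecResidueField x) p₀ (X.fromSpecResidueField x) h (𝟙 _) (𝟙 _)
    (by simp [hh]) (by simp)
  have ha1 : a ≫ p₀.fiberι x = p.fiberι x ≫ h := pullback.lift_fst _ _ _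
  have ha2 : a ≫ p₀.fiberToSpecResidueField x = p.fiberToSpecResidueField x :=
    (pullback.lift_snd _ _ _).trans (Category.comp_id _)
  haveI : IsIso a := inferInstanceAs (IsIso (pullback.map p (X.fromSpecResidueField x) p₀ (X.fromSpecResidueField x) h (𝟙 _) (𝟙 _) _ _))
  exact ⟨(Φ.ofIso (asIso a) ha2 (AmpleLib.isInvertible_pullback _ hO)).ofModIso
    ((Scheme.Modules.pullbackComp a (p₀.fiberι x)).app O₀ ≪≫ (Scheme.Modules.pullbackCongr ha1).app O₀ ≪≫
      ((Scheme.Modules.pullbackComp (p.fiberι x) h).app O₀).symm ≪≫ (Scheme.Modules.pullback (p.fiberι x)).mapIso τ)⟩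

open GrassShLib in
/-- Two projective bundles of a module are isomorphic. -/
theorem exists_iso_of_isGrass {E : X.Modules} {r : ℕ} {G G' : Scheme.{u}} {π : G ⟶ X} {π' : G' ⟶ X} {Q : G.Modules}
    {Q' : G'.Modules} {q : (Scheme.Modules.pullback π).obj E ⟶ Q} {q' : (Scheme.Modules.pullback π').obj E ⟶ Q'}
    (hG : Grass.IsGrass π E r Q q) (hG' : Grass.IsGrass π' E r Q' q') :
    ∃ (v : G' ⟶ G) (hv : v ≫ π = π') (τ : (Scheme.Modules.pullback v).obj Q ≅ Q'),
      IsIso v ∧ Grass.quotBC hv q ≫ τ.hom = q' := by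
  let D : QData E r π := ⟨Q, q, hG.rank, hG.epi⟩
  let D' : QData E r π' := ⟨Q', q', hG'.rank, hG'.epi⟩
  let v := clsMap hG D'
  let w := clsMap hG' D
  have hv : v ≫ π = π' := clsMap_comp hG D'
  have hw : w ≫ π' = π := clsMap_comp hG' D
  have hvw : v ≫ w = 𝟙 _ := hom_ext_of_cls hG' (g := π') (by rw [Category.assoc, hw, hv]) (Category.id_comp _) (by
    rw [RQ.bc_id, ← RQ.bc_bc _ w hw v hv, bc_clsMap hG' D, bc_clsMap hG D'])
  have hwv : w ≫ v = 𝟙 _ := hom_ext_of_cls hG (g := π) (by rw [Category.assoc, hv, hw]) (Category.id_comp _) (by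
    rw [RQ.bc_id, ← RQ.bc_bc _ v hv w hw, bc_clsMap hG D', bc_clsMap hG' D])
  haveI := hG.epi
  haveI := hG'.epi
  haveI := FlagLib.epi_qb q hv
  have h := bc_clsMap hG D'
  rw [QData.bc_cls] at h
  obtain ⟨τ, hτ⟩ := exists_iso_of_kerS_eq (FlagLib.qb q hv) q' (congrArg Subtype.val h)
  exact ⟨v, hv, τ, ⟨w, hvw, hwv⟩, hτ⟩

/-- A projective bundle by the universal property gives a setting. -/
theorem setting_of_isProjBundle {E : X.Modules} (hE : FlatMod.IsFinLocFreeOfRank (n + 1) E)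
    {qu : (Scheme.Modules.pullback p).obj E ⟶ O1} (hP : KRR.IsProjBundle p E O1 qu) [IsProper p]
    (hX : Cyc.IsSetup X δ) (hPs : Cyc.IsSetup P δP) (hδ : Cyc.DeltaCompat p δP δ) : Setting p O1 δP δ n := by
  have hq : Coh.IsQCoh E := (GrassShLib.isCoh_of_rank hE).1
  obtain ⟨P₀, p₀, O₀, φ, ⟨D⟩⟩ := ProjBundleLib.exists_bundle hq
  obtain ⟨v, hv, τ, hiso, -⟩ := exists_iso_of_isGrass (GrassShLib.isGrass_of_pdata D) (Grass.IsGrass.of_isProjBundle hP)
  haveI := hiso
  haveI : Flat p₀ := flat_of_pdata D hE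
  refine ⟨hX, hPs, hδ, GrassShLib.isInvertible_iff_rank_one.2 hP.invertible, ?_, inferInstance, fun x => ?_⟩
  · rw [← hv]; infer_instance
  obtain ⟨U, hU, hxU, ⟨b⟩⟩ := exists_basis D hE x
  exact fib_of_iso v hv τ D.isInvertible_O1 x (pfib hU hxU D b)

end Groth.Agent.CycLib.PB
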