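import Groth.Agent.CycLib.PB.Lin
import Groth.Agent.CycLib.CommGlobal
import Groth.Agent.CycLib.PushEquiv
import Groth.Agent.S6482
import Groth.Agent.WeilCohLib.FixedPts

/-! # Cycles on projective space over a field, axiomatized by its standard charts -/

set_option autoImplicit false
set_option backward.isDefEq.respectTransparency false
set_option linter.style.haveILetI false

universe u

open CategoryTheory CategoryTheory.Limits AlgebraicGeometry TopologicalSpace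

noncomputable section

namespace Groth.Agent.CycLib.PB

open AffBundle (polySpec Idx)

variable {K : Type u} [Field K] {n : ℕ}

/-- The homogeneous coordinate `j` on the chart `i`. -/
def cpoly {K : Type u} [CommRing K] (i j : Fin (n + 1)) : MvPolynomial (Idx.{u} n) K :=
  (finSuccEquiv' i j).elim 1 fun l => MvPolynomial.X (ULift.up l)

theorem cpoly_self (i : Fin (n + 1)) : cpoly (K := K) i i = 1 := by simp [cpoly, finSuccEquiv'_at]

theorem cpoly_below {i : Fin (n + 1)} {l : ℕ} (hl : l < i) :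
    cpoly (K := K) i ⟨l, by omega⟩ = MvPolynomial.X (ULift.up ⟨l, by omega⟩) := by
  rw [cpoly, show (⟨l, by omega⟩ : Fin (n + 1)) = Fin.castSucc ⟨l, by omega⟩ from rfl, finSuccEquiv'_below (by exact hl)]
  rfl

theorem cpoly_above {i : Fin (n + 1)} {l : ℕ} (hl : l < n) (hil : (i : ℕ) ≤ l) :
    cpoly (K := K) i ⟨l + 1, by omega⟩ = MvPolynomial.X (ULift.up ⟨l, hl⟩) := by
  rw [cpoly, show (⟨l + 1, by omega⟩ : Fin (n + 1)) = Fin.succ ⟨l, hl⟩ from rfl,
    finSuccEquiv'_above (by rw [Fin.le_def]; exact hil)]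
  rfl

/-- Standard projective space data on a scheme over a field. -/
structure PFib {Z : Scheme.{u}} (q : Z ⟶ Spec (CommRingCat.of K)) (L : Z.Modules) (n : ℕ) where
  g : Fin (n + 1) → (polySpec.{u} n K ⟶ Z)
  open_g : ∀ i, IsOpenImmersion (g i)
  over_g : ∀ i, g i ≫ q = Spec.map (CommRingCat.ofHom (MvPolynomial.C (σ := Idx.{u} n) (R := K)))
  cover : ∀ z, ∃ i, z ∈ Set.range (g i)
  σ : Fin (n + 1) → ∀ z : Z, L.presheaf.stalk z
  σ_sp : ∀ j {a b : Z} (h : a ⤳ b), L.presheaf.stalkSpecializes h (σ j b) = σ j a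
  gen : ∀ i z, z ∈ Set.range (g i) ↔ Function.Bijective fun c : Z.presheaf.stalk z => c • σ i z
  rel : ∀ i j (y : ↥(polySpec.{u} n K)), ∃ a : Z.presheaf.stalk (g i y), σ j (g i y) = a • σ i (g i y) ∧
    (g i).stalkMap y a = StructureSheaf.toStalk (MvPolynomial (Idx.{u} n) K) y (cpoly i j)

theorem deltaCompat_openImm {W Z : Scheme.{u}} (g : W ⟶ Z) [IsOpenImmersion g] (q : Z ⟶ Spec (CommRingCat.of K))
    [LocallyOfFiniteType q] {δ : Z → ℤ} (hδ : Cyc.DeltaCompat q δ (fun _ => 0)) :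
    Cyc.DeltaCompat (g ≫ q) (fun y => δ (g y)) (fun _ => 0) := by
  have hc : Cyc.DeltaCompat g (fun y => δ (g y)) δ := fun y => by
    refine ⟨0, ?_, by simp⟩
    letI := (g.residueFieldMap y).hom.toAlgebra
    haveI : Algebra.IsAlgebraic (Z.residueField (g y)) (W.residueField y) :=
      ⟨fun z => by
        obtain ⟨w, rfl⟩ := (bijective_residueFieldMap g y).2 z
        exact isAlgebraic_algebraMap w⟩
    rw [trdeg_eq_zero]
    simp
  exact deltaCompat_comp (δX := δ) (δZ := fun y => δ (g y)) (δY := fun _ => 0) hδ hc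

/-- The dimension function on an open subscheme of a scheme over a field. -/
theorem dim_of_openImm {W Z : Scheme.{u}} (g : W ⟶ Z) [IsOpenImmersion g] (q : Z ⟶ Spec (CommRingCat.of K))
    [LocallyOfFiniteType q] {δ : Z → ℤ} (hδ : Cyc.DeltaCompat q δ (fun _ => 0)) (y : W) :
    ∃ t : ℕ, δ (g y) = t ∧ topologicalKrullDim (closure ({y} : Set W)) = t := by
  letI : W.Over (Spec (CommRingCat.of K)) := ⟨g ≫ q⟩
  haveI : LocallyOfFiniteType (W ↘ Spec (CommRingCat.of K)) := inferInstanceAs (LocallyOfFiniteType (g ≫ q))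
  exact delta_dim K (fun y => δ (g y)) (deltaCompat_openImm g q hδ) y

/-- Orders on an affine open subscheme. -/
theorem ordAt_affine_chart {A : Type u} [CommRing A] {Z : Scheme.{u}} [IsLocallyNoetherian Z]
    [IsLocallyNoetherian (Spec (CommRingCat.of A))] (g : Spec (CommRingCat.of A) ⟶ Z) [IsOpenImmersion g]
    {δ : Z → ℤ} (hδ : Cyc.IsDimFun Z δ) (hδ' : Cyc.IsDimFun (Spec (CommRingCat.of A)) fun y => δ (g y))
    {x ξ : ↥(Spec (CommRingCat.of A))} (h : ξ ⤳ x) (h' : g ξ ⤳ g x) (hd : δ (g x) + 1 = δ (g ξ))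
    {c : Z.presheaf.stalk (g x)} {a : A} (hc : g.stalkMap x c = StructureSheaf.toStalk A x a) (ha : a ∈ x.asIdeal)
    (ha' : a ∉ ξ.asIdeal) (hx : ∀ f : A, f ∈ x.asIdeal → ∃ b e : A, b ∈ ξ.asIdeal ∧ f = b + e * a) :
    Cyc.ordAt (g x) (g ξ) h' (Cyc.specMap (g x) (g ξ) h' c) = 1 := by
  rw [← ordAt_map g hδ hδ' h h' hd hd, residueFieldMap_specMap g h h', hc]
  exact ordAt_spec hδ' h hd ha ha' hx

namespace PFib

variable {Z : Scheme.{u}} {q : Z ⟶ Spec (CommRingCat.of K)} {L : Z.Modules} (Φ : PFib q L n)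

theorem isUnit_toStalk_iff {A : Type u} [CommRing A] (y : ↥(Spec (CommRingCat.of A))) (f : A) :
    IsUnit (StructureSheaf.toStalk A y f) ↔ f ∉ y.asIdeal := by
  letI : Algebra A ((Spec (CommRingCat.of A)).presheaf.stalk y) := StructureSheaf.stalkAlgebra A y
  haveI : IsLocalization.AtPrime ((Spec (CommRingCat.of A)).presheaf.stalk y) y.asIdeal :=
    StructureSheaf.IsLocalization.to_stalk A y
  exact IsLocalization.AtPrime.isUnit_to_map_iff ((Spec (CommRingCat.of A)).presheaf.stalk y) y.asIdeal f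

/-- A coordinate generates exactly where its polynomial does not vanish. -/
theorem gen_iff (i j : Fin (n + 1)) (y : ↥(polySpec.{u} n K)) :
    Φ.g i y ∈ Set.range (Φ.g j) ↔ cpoly i j ∉ y.asIdeal := by
  haveI := Φ.open_g i
  obtain ⟨a, ha, ha'⟩ := Φ.rel i j y
  have hi := (Φ.gen i (Φ.g i y)).1 ⟨y, rfl⟩
  have hu : IsUnit a ↔ IsUnit ((Φ.g i).stalkMap y a) :=
    ⟨fun h => h.map ((Φ.g i).stalkMap y).hom, fun h => isUnit_of_map_unit ((Φ.g i).stalkMap y).hom a h⟩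
  rw [Φ.gen j, ← isUnit_toStalk_iff, ← ha', ← hu, ha]
  constructor
  · intro h
    obtain ⟨b, hb⟩ := h.2 (Φ.σ i (Φ.g i y))
    refine IsUnit.of_mul_eq_one b (hi.1 ?_)
    show (a * b) • Φ.σ i (Φ.g i y) = (1 : Z.presheaf.stalk (Φ.g i y)) • Φ.σ i (Φ.g i y)
    rw [one_smul, mul_comm, mul_smul]
    exact hb
  · intro h
    have : (fun c : Z.presheaf.stalk (Φ.g i y) => c • a • Φ.σ i (Φ.g i y)) =
        (fun c => c • Φ.σ i (Φ.g i y)) ∘ fun c => c * a := funext fun c => (mul_smul c a _).symm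
    rw [this]
    exact hi.comp (IsUnit.isUnit_iff_mulRight_bijective.1 h)

/-- The closed set where the first `m` coordinates vanish. -/
def C (m : ℕ) : Set Z := {z | ∀ j : Fin (n + 1), (j : ℕ) < m → z ∉ Set.range (Φ.g j)}

theorem C_zero : Φ.C 0 = Set.univ := Set.eq_univ_of_forall fun _ _ h => absurd h (Nat.not_lt_zero _)

theorem mem_C_of_specializes {m : ℕ} {a b : Z} (h : a ⤳ b) (ha : a ∈ Φ.C m) : b ∈ Φ.C m := fun j hj hb => by
  haveI := Φ.open_g j
  exact ha j hj (h.mem_open (Φ.g j).isOpenEmbedding.isOpen_range hb)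

theorem le_of_mem_C {m : ℕ} {i : Fin (n + 1)} {y : ↥(polySpec.{u} n K)} (h : Φ.g i y ∈ Φ.C m) : m ≤ i := by
  by_contra hlt
  exact h i (not_le.1 hlt) ⟨y, rfl⟩

theorem mem_C_iff {m : ℕ} {i : Fin (n + 1)} (hm : m ≤ i) (y : ↥(polySpec.{u} n K)) :
    Φ.g i y ∈ Φ.C m ↔ ∀ l : Idx.{u} n, (l.down : ℕ) < m → MvPolynomial.X l ∈ y.asIdeal := by
  constructor
  · intro h l hl
    have hne := h ⟨l.down, by omega⟩ hl
    rw [gen_iff, cpoly_below (show (l.down : ℕ) < (i : ℕ) by omega), not_not] at hne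
    exact hne
  · intro h j hj
    have hc := cpoly_below (K := K) (i := i) (l := (j : ℕ)) (by omega)
    rw [gen_iff, show j = ⟨(j : ℕ), j.2⟩ from rfl, hc, not_not]
    exact h _ hj

/-- The generic point of a linear subspace. -/
def xi (m : ℕ) : Z := Φ.g (Fin.last n) (pt m)

theorem xi_mem_C {m : ℕ} (hm : m ≤ n) : Φ.xi m ∈ Φ.C m :=
  (Φ.mem_C_iff (i := Fin.last n) hm _).2 fun _ hl => X_mem_pt_iff.2 hl

theorem g_pt_eq {m : ℕ} {i : Fin (n + 1)} (hm : m ≤ i) : Φ.g i (pt m) = Φ.xi m := by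
  rcases (Fin.le_last i).lt_or_eq with hi | rfl
  swap
  · rfl
  have hin : (i : ℕ) < n := hi
  have hC1 : Φ.g i (pt m) ∈ Φ.C m := (Φ.mem_C_iff hm _).2 fun _ hl => X_mem_pt_iff.2 hl
  have h1 : Φ.g i (pt m) ∈ Set.range (Φ.g (Fin.last n)) := by
    rw [gen_iff, show Fin.last n = ⟨(n - 1) + 1, by omega⟩ from Fin.ext (by simp; omega),
      cpoly_above (show n - 1 < n by omega) (show (i : ℕ) ≤ n - 1 by omega), X_mem_pt_iff]
    simp only
    omega
  have h2 : Φ.xi m ∈ Set.range (Φ.g i) := by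
    rw [xi, gen_iff, show i = ⟨(i : ℕ), i.2⟩ from rfl, cpoly_below (by exact hin), X_mem_pt_iff]
    simp only
    omega
  obtain ⟨y, hy⟩ := h1
  obtain ⟨y', hy'⟩ := h2
  have e1 : Φ.xi m ⤳ Φ.g i (pt m) := by
    rw [← hy]
    refine Specializes.map (pt_specializes ?_) (Φ.g (Fin.last n)).continuous
    exact (Φ.mem_C_iff (show m ≤ (Fin.last n : ℕ) by simp; omega) y).1 (by rw [hy]; exact hC1)
  have e2 : Φ.g i (pt m) ⤳ Φ.xi m := by
    rw [← hy']
    refine Specializes.map (pt_specializes ?_) (Φ.g i).continuous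
    exact (Φ.mem_C_iff hm y').1 (by rw [hy']; exact Φ.xi_mem_C (by omega))
  exact (e2.antisymm e1).eq

theorem xi_specializes {m : ℕ} {z : Z} (h : z ∈ Φ.C m) : Φ.xi m ⤳ z := by
  obtain ⟨i, y, rfl⟩ := Φ.cover z
  have hm := Φ.le_of_mem_C h
  rw [← Φ.g_pt_eq hm]
  exact (pt_specializes ((Φ.mem_C_iff hm y).1 h)).map (Φ.g i).continuous

section Delta

variable [LocallyOfFiniteType q] {δ : Z → ℤ} (hδ : Cyc.DeltaCompat q δ (fun _ => 0))

include Φ hδ

theorem chart_dim (i : Fin (n + 1)) (y : ↥(polySpec.{u} n K)) :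
    ∃ t : ℕ, δ (Φ.g i y) = t ∧ topologicalKrullDim (closure ({y} : Set ↥(polySpec.{u} n K))) = t :=
  haveI := Φ.open_g i
  dim_of_openImm (Φ.g i) q hδ y

theorem isLocallyNoetherian (Φ : PFib q L n) : IsLocallyNoetherian Z := LocallyOfFiniteType.isLocallyNoetherian q

theorem isSetup : Cyc.IsSetup Z δ := by
  letI : Z.Over (Spec (CommRingCat.of K)) := ⟨q⟩
  haveI : LocallyOfFiniteType (Z ↘ Spec (CommRingCat.of K)) := inferInstanceAs (LocallyOfFiniteType q)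
  exact isSetup_of_field K δ hδ

theorem delta_xi {m : ℕ} (hm : m ≤ n) : δ (Φ.xi m) = (n : ℤ) - m :=
  delta_pt (δ := fun y => δ (Φ.g (Fin.last n) y)) (Φ.chart_dim hδ _) hm

theorem delta_nonneg (z : Z) : 0 ≤ δ z := by
  obtain ⟨i, y, rfl⟩ := Φ.cover z
  obtain ⟨t, ht, -⟩ := Φ.chart_dim hδ i y
  omega

theorem delta_le_of_mem_C {m : ℕ} (hm : m ≤ n) {z : Z} (h : z ∈ Φ.C m) :
    δ z ≤ (n : ℤ) - m ∧ (δ z = (n : ℤ) - m → z = Φ.xi m) := by
  have hs := Φ.xi_specializes h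
  rw [← Φ.delta_xi hδ hm]
  rcases eq_or_ne (Φ.xi m) z with e | hne
  · subst e; exact ⟨le_rfl, fun _ => rfl⟩
  · have := ((Φ.isSetup hδ).2.2 _ _ hs hne).1
    exact ⟨by omega, fun h => absurd h (by omega)⟩

theorem mkF_ne_zero {j : Fin (n + 1)} {z : Z} (h : z ∈ Set.range (Φ.g j)) : mkF L z (Φ.σ j z) ≠ 0 := fun e => by
  have := (smul_mkF_eq_zero_iff ((Φ.gen j z).1 h) 1).1 (by rw [one_smul]; exact e)
  rw [map_one] at this
  exact one_ne_zero this

theorem xi_mem_range {m : ℕ} (hm : m ≤ n) : Φ.xi m ∈ Set.range (Φ.g ⟨m, by omega⟩) := by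
  rw [← Φ.g_pt_eq (i := ⟨m, by omega⟩) le_rfl]
  exact ⟨_, rfl⟩

open scoped Classical in
/-- The divisor of a coordinate on a linear subspace is the next linear subspace. -/
theorem secDivFun_xi {m : ℕ} (hm : m < n) :
    Cyc.secDivFun δ L (Φ.xi m) (mkF L (Φ.xi m) (Φ.σ ⟨m, by omega⟩ (Φ.xi m))) =
      (Pi.single (Φ.xi (m + 1)) 1 : Z → ℤ) := by
  haveI := (Φ.isSetup hδ).1
  have hδZ := (Φ.isSetup hδ).2.2
  funext x
  by_cases hx : Φ.xi m ⤳ x ∧ δ x + 1 = δ (Φ.xi m)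
  swap
  · rw [Cyc.secDivFun, dif_neg hx, Pi.single_eq_of_ne]
    rintro rfl
    refine hx ⟨Φ.xi_specializes ?_, ?_⟩
    · intro j hj
      exact Φ.xi_mem_C (show m + 1 ≤ n by omega) j (by omega)
    · rw [Φ.delta_xi hδ (show m + 1 ≤ n by omega), Φ.delta_xi hδ (show m ≤ n by omega)]
      push_cast
      ring
  obtain ⟨hs, hd⟩ := hx
  have hxC : x ∈ Φ.C m := Φ.mem_C_of_specializes hs (Φ.xi_mem_C hm.le)
  obtain ⟨i, y, rfl⟩ := Φ.cover x
  have hmi := Φ.le_of_mem_C hxC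
  haveI := Φ.open_g i
  obtain ⟨a, ha, ha'⟩ := Φ.rel i ⟨m, by omega⟩ y
  have hgen : Function.Bijective fun c : Z.presheaf.stalk (Φ.g i y) => c • Φ.σ i (Φ.g i y) := (Φ.gen i _).1 ⟨y, rfl⟩
  have hgenξ : Function.Bijective fun c : Z.presheaf.stalk (Φ.xi m) => c • L.presheaf.stalkSpecializes hs (Φ.σ i (Φ.g i y)) := by
    rw [Φ.σ_sp]
    exact (Φ.gen i _).1 (by rw [← Φ.g_pt_eq hmi]; exact ⟨_, rfl⟩)
  have e1 : Φ.σ ⟨m, by omega⟩ (Φ.xi m) =
      Z.presheaf.stalkSpecializes hs a • L.presheaf.stalkSpecializes hs (Φ.σ i (Φ.g i y)) := by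
    rw [← RefOne.stalkSpecializes_smul, ← ha, Φ.σ_sp]
  rw [secDivFun_of hs hd,
    show mkF L (Φ.xi m) (Φ.σ ⟨m, by omega⟩ (Φ.xi m)) = Z.presheaf.stalkSpecializes hs a •
      mkF L (Φ.xi m) (L.presheaf.stalkSpecializes hs (Φ.σ i (Φ.g i y))) from
      (congrArg (mkF L (Φ.xi m)) e1).trans (Submodule.Quotient.mk_smul _ _ _),
    secOrdAt_eq hδZ hs hd hgen hgenξ]
  change Cyc.ordAt _ _ hs (Cyc.specMap _ _ hs a) = _
  by_cases hgm : Φ.g i y ∈ Set.range (Φ.g ⟨m, by omega⟩)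
  · have hu : IsUnit a := by
      have := (isUnit_toStalk_iff y _).2 ((Φ.gen_iff i ⟨m, by omega⟩ y).1 hgm)
      rw [← ha'] at this
      exact isUnit_of_map_unit ((Φ.g i).stalkMap y).hom a this
    rw [ordAt_specMap_unit hδZ hs hd hu, Pi.single_eq_of_ne]
    intro e
    exact Φ.xi_mem_C (show m + 1 ≤ n by omega) ⟨m, by omega⟩ (Nat.lt_succ_self m) (e ▸ hgm)
  have hC' : Φ.g i y ∈ Φ.C (m + 1) := fun j hj => by
    rcases (Nat.lt_succ_iff.1 hj).lt_or_eq with h | h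
    · exact hxC j h
    · rw [show j = ⟨m, by omega⟩ from Fin.ext h]; exact hgm
  have hxe : Φ.g i y = Φ.xi (m + 1) :=
    (Φ.delta_le_of_mem_C hδ (show m + 1 ≤ n by omega) hC').2 (by
      rw [Φ.delta_xi hδ hm.le] at hd; push_cast; omega)
  have hmi' := Φ.le_of_mem_C hC'
  obtain rfl : y = pt (m + 1) := (Φ.g i).isOpenEmbedding.injective (hxe.trans (Φ.g_pt_eq hmi').symm)
  rw [← hxe, Pi.single_eq_same]
  have key : ∀ (ξ : Z) (e : Φ.g i (pt m) = ξ) (h : ξ ⤳ Φ.g i (pt (m + 1))) (_ : δ (Φ.g i (pt (m + 1))) + 1 = δ ξ),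
      Cyc.ordAt (Φ.g i (pt (m + 1))) ξ h (Cyc.specMap _ _ h a) = 1 := by
    rintro _ rfl h hd
    haveI : IsLocallyNoetherian (polySpec.{u} n K) :=
      (AffBundle.poly_facts (Iso.refl (polySpec.{u} n K)) (Φ.chart_dim hδ i)).1
    obtain ⟨-, hdi, -, -⟩ := AffBundle.poly_facts (Iso.refl (polySpec.{u} n K)) (Φ.chart_dim hδ i)
    have hX : (Φ.g i).stalkMap (pt (m + 1)) a = StructureSheaf.toStalk (MvPolynomial (Idx.{u} n) K) (pt (m + 1))
        (MvPolynomial.X (ULift.up ⟨m, by omega⟩) : MvPolynomial (Idx.{u} n) K) := by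
      rw [← cpoly_below (K := K) (i := i) (show m < (i : ℕ) by omega)]
      exact ha'
    have hmem : (MvPolynomial.X (ULift.up ⟨m, by omega⟩) : MvPolynomial (Idx.{u} n) K) ∈
        (pt (K := K) (n := n) (m + 1)).asIdeal := X_mem_pt_iff.2 (Nat.lt_succ_self m)
    have hnot : (MvPolynomial.X (ULift.up ⟨m, by omega⟩) : MvPolynomial (Idx.{u} n) K) ∉
        (pt (K := K) (n := n) m).asIdeal := by
      intro e
      rw [X_mem_pt_iff] at e
      exact lt_irrefl _ e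
    have hspan : ∀ f : MvPolynomial (Idx.{u} n) K, f ∈ (pt (K := K) (n := n) (m + 1)).asIdeal →
        ∃ b e : MvPolynomial (Idx.{u} n) K, b ∈ (pt (K := K) (n := n) m).asIdeal ∧
          f = b + e * MvPolynomial.X (ULift.up ⟨m, by omega⟩) :=
      fun f hf => mem_pt_succ (show m < n by omega) hf
    exact ordAt_affine_chart (A := MvPolynomial (Idx.{u} n) K) (Z := Z) (Φ.g i) (δ := δ) hδZ hdi (x := pt (m + 1)) (ξ := pt m)
      (pt_specializes_succ m) h hd (c := a) (a := MvPolynomial.X (ULift.up ⟨m, by omega⟩)) hX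
      hmem hnot hspan
  exact key _ (Φ.g_pt_eq hmi) hs hd

end Delta

end PFib

end Groth.Agent.CycLib.PB
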