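import Groth.Agent.ProjBundleLib.Tensor
import Groth.Agent.CycLib.PB.FibData

/-! # Standard charts of a projective bundle with a basis -/

set_option autoImplicit false
set_option backward.isDefEq.respectTransparency false
set_option linter.style.haveILetI false

universe u

open CategoryTheory CategoryTheory.Limits AlgebraicGeometry TopologicalSpace

noncomputable section

namespace Groth.Agent.CycLib.PB

open AffBundle (polySpec Idx)

/-- A map into an affine open, on sections. -/
theorem appLE_specMap_fromSpec {P : Scheme.{u}} {V : P.Opens} (hV : IsAffineOpen V) {R : CommRingCat.{u}}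
    (f : Γ(P, V) ⟶ R) (e : ⊤ ≤ (Spec.map f ≫ hV.fromSpec) ⁻¹ᵁ V) :
    (Spec.map f ≫ hV.fromSpec).appLE V ⊤ e = f ≫ (Scheme.ΓSpecIso R).inv := by
  rw [Scheme.Hom.comp_appLE, hV.fromSpec_app_self, Category.assoc, Scheme.Hom.map_appLE]
  refine Eq.trans ?_ (Scheme.ΓSpecIso_inv_naturality f).symm
  rw [Scheme.Hom.appTop, Scheme.Hom.app_eq_appLE]
  rfl

variable {Y P : Scheme.{u}} {p : P ⟶ Y} {E : Y.Modules} {O1 : P.Modules}
  {φ : E ⟶ (Scheme.Modules.pushforward p).obj O1} (D : ProjBundleLib.PData p E O1 φ)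
  {U : Y.Opens} (hU : IsAffineOpen U) {n : ℕ} (b : Module.Basis (Fin (n + 1)) Γ(Y, U) Γ(E, U))

/-- Constants on a standard open. -/
def cst (e₀ : Γ(E, U)) : Γ(Y, U) →+* Γ(P, D.DPl hU e₀) := (p.appLE U _ (D.DPl_le hU e₀)).hom

/-- The coordinates of the chart `i`. -/
def theta (i : Fin (n + 1)) : MvPolynomial (Idx.{u} n) Γ(Y, U) →+* Γ(P, D.DPl hU (b i)) :=
  MvPolynomial.eval₂Hom (cst D hU (b i)) fun l => D.coord hU (b i) (b (i.succAbove l.down))

theorem theta_cpoly (i j : Fin (n + 1)) : theta D hU b i (cpoly i j) = D.coord hU (b i) (b j) := by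
  rcases Fin.eq_self_or_eq_succAbove i j with rfl | ⟨l, rfl⟩
  · rw [cpoly, finSuccEquiv'_at, Option.elim, map_one, D.coord_self]
  · rw [cpoly, finSuccEquiv'_succAbove, Option.elim, theta, MvPolynomial.eval₂Hom_X']

theorem theta_bijective (i : Fin (n + 1)) :
    ∃ ψ : Γ(P, D.DPl hU (b i)) →+* MvPolynomial (Idx.{u} n) Γ(Y, U),
      ψ.comp (theta D hU b i) = RingHom.id _ ∧ (theta D hU b i).comp ψ = RingHom.id _ := by
  let c := b.constr Γ(Y, U) (fun j => cpoly (K := Γ(Y, U)) i j)
  have hb : ∀ j, c (b j) = cpoly i j := fun j => b.constr_basis _ _ j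
  have hc : ∀ (r : Γ(Y, U)) (e : Γ(E, U)), c (r • e) = MvPolynomial.C r * c e := fun r e => by
    rw [map_smul, Algebra.smul_def, MvPolynomial.algebraMap_eq]
  have hci : cpoly (K := Γ(Y, U)) i i = 1 := by rw [cpoly, finSuccEquiv'_at]; rfl
  obtain ⟨ψ, hψ⟩ := D.exists_hom hU (b i) MvPolynomial.C c.toAddMonoidHom hc ((hb i).trans hci)
  refine ⟨ψ, MvPolynomial.ringHom_ext (fun a => ?_) (fun l => ?_), ?_⟩
  · show ψ (theta D hU b i (MvPolynomial.C a)) = MvPolynomial.C a
    have h := hψ (a • b i)
    rw [D.coord_smul, D.coord_self, mul_one] at h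
    rw [theta, MvPolynomial.eval₂Hom_C]
    refine h.trans ((hc a (b i)).trans ?_)
    rw [hb, hci, mul_one]
  · show ψ (theta D hU b i (MvPolynomial.X l)) = MvPolynomial.X l
    rw [theta, MvPolynomial.eval₂Hom_X']
    refine (hψ _).trans ((hb _).trans ?_)
    rw [cpoly, finSuccEquiv'_succAbove]
    rfl
  · have hlin : ∀ e, theta D hU b i (c e) = D.coord hU (b i) e := fun e => by
      have he : e ∈ Submodule.span Γ(Y, U) (Set.range b) := by rw [b.span_eq]; trivial
      induction he using Submodule.span_induction with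
      | mem x hx =>
        obtain ⟨j, rfl⟩ := hx
        rw [hb, theta_cpoly]
      | zero =>
        rw [map_zero, map_zero]
        exact (map_zero (AddMonoidHom.mk' (D.coord hU (b i)) (D.coord_add hU (b i)))).symm
      | add x y _ _ hx hy => rw [map_add, map_add, hx, hy, D.coord_add]
      | smul a x _ hx =>
        rw [hc, map_mul, hx, D.coord_smul, theta, MvPolynomial.eval₂Hom_C]
        rfl
    refine RingHom.ext fun z => ?_
    have hz : z ∈ Subring.closure (Set.range (D.coord hU (b i))) := by rw [D.closure_coord]; trivial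
    refine RingHom.eqOn_set_closure ?_ hz
    rintro _ ⟨e, rfl⟩
    show theta D hU b i (ψ _) = _
    rw [hψ]
    exact hlin e

/-- The ring of a standard open is a polynomial ring. -/
def chartEquiv (i : Fin (n + 1)) : MvPolynomial (Idx.{u} n) Γ(Y, U) ≃+* Γ(P, D.DPl hU (b i)) :=
  RingEquiv.ofRingHom (theta D hU b i) (theta_bijective D hU b i).choose
    (theta_bijective D hU b i).choose_spec.2 (theta_bijective D hU b i).choose_spec.1

theorem chartEquiv_symm_coord (i j : Fin (n + 1)) :
    (chartEquiv D hU b i).symm (D.coord hU (b i) (b j)) = cpoly i j := by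
  rw [RingEquiv.symm_apply_eq]
  exact (theta_cpoly D hU b i j).symm

/-- The standard chart. -/
def chartMap (i : Fin (n + 1)) : Spec (CommRingCat.of (MvPolynomial (Idx.{u} n) Γ(Y, U))) ⟶ P :=
  Spec.map (CommRingCat.ofHom (chartEquiv D hU b i).symm.toRingHom) ≫ (D.isAffineOpen_DPl hU (b i)).fromSpec

instance (i : Fin (n + 1)) :
    IsIso (Spec.map (CommRingCat.ofHom (chartEquiv D hU b i).symm.toRingHom)) := by
  haveI : IsIso (CommRingCat.ofHom (chartEquiv D hU b i).symm.toRingHom) :=
    inferInstanceAs (IsIso (chartEquiv D hU b i).symm.toCommRingCatIso.hom)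
  infer_instance

instance isOpenImmersion_chartMap (i : Fin (n + 1)) : IsOpenImmersion (chartMap D hU b i) :=
  inferInstanceAs (IsOpenImmersion (_ ≫ (D.isAffineOpen_DPl hU (b i)).fromSpec))

theorem range_chartMap (i : Fin (n + 1)) : Set.range (chartMap D hU b i) = D.DPl hU (b i) := by
  rw [chartMap, Scheme.Hom.comp_base, TopCat.coe_comp, Set.range_comp,
    Set.range_eq_univ.2 (Spec.map (CommRingCat.ofHom (chartEquiv D hU b i).symm.toRingHom)).surjective,
    Set.image_univ]
  exact (D.isAffineOpen_DPl hU (b i)).range_fromSpec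

theorem chartMap_p (i : Fin (n + 1)) :
    chartMap D hU b i ≫ p = Spec.map (CommRingCat.ofHom MvPolynomial.C) ≫ hU.fromSpec := by
  rw [chartMap, Category.assoc, ← IsAffineOpen.SpecMap_appLE_fromSpec p hU (D.isAffineOpen_DPl hU (b i))
    (D.DPl_le hU (b i)), ← Category.assoc, ← Spec.map_comp]
  congr 2
  refine CommRingCat.hom_ext (RingHom.ext fun a => ?_)
  show (chartEquiv D hU b i).symm (cst D hU (b i) a) = MvPolynomial.C a
  rw [RingEquiv.symm_apply_eq]
  exact (MvPolynomial.eval₂Hom_C _ _ _).symm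

theorem cover_chartMap {y : P} (hy : p y ∈ U) : ∃ i, y ∈ D.DPl hU (b i) := by
  classical
  obtain ⟨v, hv⟩ := D.cover hU hy
  by_contra hne
  push Not at hne
  have hv1 := D.coord_self hU v
  have key : ∀ e, P.presheaf.germ _ y hv (D.coord hU v e) ∈ IsLocalRing.maximalIdeal (P.presheaf.stalk y) := fun e => by
    have he : e ∈ Submodule.span Γ(Y, U) (Set.range b) := by rw [b.span_eq]; trivial
    induction he using Submodule.span_induction with
    | mem x hx =>
      obtain ⟨j, rfl⟩ := hx
      intro hu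
      have h3 := (Scheme.mem_basicOpen _ (D.coord hU v (b j)) y hv).2 hu
      rw [D.basicOpen_coord hU] at h3
      exact hne j h3.2
    | zero =>
      rw [show D.coord hU v 0 = 0 from map_zero (AddMonoidHom.mk' (D.coord hU v) (D.coord_add hU v)), map_zero]
      exact zero_mem _
    | add x z _ _ hx hz => rw [D.coord_add, map_add]; exact add_mem hx hz
    | smul a x _ hx => rw [D.coord_smul, map_mul]; exact Ideal.mul_mem_left _ _ hx
  have := key v
  rw [hv1, map_one] at this
  exact this isUnit_one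

end Groth.Agent.CycLib.PB
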