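import Groth.Agent.CycLib.PB.FibData
import Groth.Agent.CycLib.C1Cycle

/-! # Cycle classes on projective space over a field -/

set_option autoImplicit false
set_option backward.isDefEq.respectTransparency false
set_option linter.style.haveILetI false

universe u

open CategoryTheory CategoryTheory.Limits AlgebraicGeometry TopologicalSpace

noncomputable section

namespace Groth.Agent.CycLib.PB

open AffBundle (polySpec Idx)

section Compact

variable {Z : Scheme.{u}} [IsLocallyNoetherian Z] [CompactSpace Z] {δ : Z → ℤ}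

theorem mem_divSpan_of_ratEquivZero (hδ : Cyc.IsDimFun Z δ) {j : ℤ} {α : AlgebraicCycle Z ℤ}
    (h : Cyc.RatEquivZero δ j α) : ⇑α ∈ divSpan δ j := by
  obtain ⟨F, hF⟩ := (ratEquivZero_iff _).1 h
  haveI : Finite F.ι := Set.finite_univ_iff.1 ((F.finite_mem (U := ⊤) isCompact_univ).subset fun i _ => trivial)
  haveI := Fintype.ofFinite F.ι
  rw [show (⇑α : Z → ℤ) = ∑ i, Cyc.divFun δ (F.ξ i) (F.f i) from funext fun x => by
    rw [Finset.sum_apply, hF, finsum_eq_sum_of_fintype]]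
  exact AddSubgroup.sum_mem _ fun i _ => divFun_mem_divSpan (F.hξ i) (F.hf i)

omit [IsLocallyNoetherian Z] in
/-- A function with finite support as a cycle. -/
def cycleOfFinite (c : Z → ℤ) (hc : (Function.support c).Finite) : AlgebraicCycle Z ℤ where
  toFun := c
  supportWithinDomain' := Set.subset_univ _
  supportLocallyFiniteWithinDomain' _ _ := ⟨Set.univ, Filter.univ_mem, hc.subset Set.inter_subset_right⟩

theorem finite_support (α : AlgebraicCycle Z ℤ) : (Function.support α).Finite := by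
  simpa using α.locallyFiniteSupport.finite_inter_support_of_isCompact isCompact_univ

theorem ratEquivZero_of_mem_divSpan (hδ : Cyc.IsDimFun Z δ) {j : ℤ} {α : AlgebraicCycle Z ℤ}
    (h : ⇑α ∈ divSpan δ j) : Cyc.RatEquivZero δ j α := by
  obtain ⟨ι, _, ξ, g, h1, h2, h3⟩ := exists_sum_of_mem_divSpan hδ h
  refine (ratEquivZero_iff _).2 ⟨⟨ULift.{u} ι, fun i => ξ i.down, fun i => g i.down, fun i => h1 _, fun i => h2 _,
    fun x => ⟨Set.univ, isOpen_univ, trivial, Set.toFinite _⟩⟩, fun x => ?_⟩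
  rw [h3, finsum_eq_sum_of_fintype]
  exact (Fintype.sum_equiv Equiv.ulift _ _ fun i => rfl).symm

end Compact

variable {K : Type u} [Field K] {n : ℕ} {Z : Scheme.{u}} {q : Z ⟶ Spec (CommRingCat.of K)} {L : Z.Modules}

namespace PFib

variable (Φ : PFib q L n) [LocallyOfFiniteType q] [QuasiCompact q] {δ : Z → ℤ}
  (hδ : Cyc.DeltaCompat q δ (fun _ => 0))

theorem compactSpace (Φ : PFib q L n) : CompactSpace Z := QuasiCompact.compactSpace_of_compactSpace q

/-- The embedding of the coordinate subspace in a chart. -/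
def sub (m : ℕ) : polySpec.{u} (n - m) K ⟶ polySpec.{u} n K :=
  Spec.map (CommRingCat.ofHom (MvPolynomial.aeval (R := K) fun l : Idx.{u} n =>
    if h : (l.down : ℕ) < m then (0 : MvPolynomial (Idx.{u} (n - m)) K)
    else MvPolynomial.X (ULift.up ⟨(l.down : ℕ) - m, by omega⟩)).toRingHom)

theorem surjective_sub (m : ℕ) : Function.Surjective (MvPolynomial.aeval (R := K) fun l : Idx.{u} n =>
    if h : (l.down : ℕ) < m then (0 : MvPolynomial (Idx.{u} (n - m)) K)
    else MvPolynomial.X (ULift.up ⟨(l.down : ℕ) - m, by omega⟩)) := by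
  intro f
  refine ⟨MvPolynomial.aeval (fun l : Idx.{u} (n - m) => (MvPolynomial.X (ULift.up ⟨(l.down : ℕ) + m, by omega⟩) :
    MvPolynomial (Idx.{u} n) K)) f, ?_⟩
  rw [← AlgHom.comp_apply]
  refine (congrArg (fun φ : _ →ₐ[K] _ => φ f) (MvPolynomial.algHom_ext (g := AlgHom.id K _) fun l => ?_)).trans rfl
  simp

instance (m : ℕ) : IsClosedImmersion (sub (K := K) (n := n) m) :=
  IsClosedImmersion.spec_of_surjective _ (surjective_sub m)

theorem mem_range_sub {m : ℕ} {y : ↥(polySpec.{u} n K)}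
    (hy : ∀ l : Idx.{u} n, (l.down : ℕ) < m → MvPolynomial.X l ∈ y.asIdeal) :
    y ∈ Set.range (sub (K := K) (n := n) m) := by
  refine (Set.ext_iff.1 (range_comap_of_surjective _ _ (surjective_sub (K := K) (n := n) m)) y).2 ?_
  rw [PrimeSpectrum.mem_zeroLocus]
  intro f hf
  refine pt_le hy (mem_pt.2 ?_)
  have h : (MvPolynomial.aeval (fun l : Idx.{u} (n - m) => (MvPolynomial.X (ULift.up ⟨(l.down : ℕ) + m, by omega⟩) :
      MvPolynomial (Idx.{u} n) K))).comp (MvPolynomial.aeval (R := K) fun l : Idx.{u} n =>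
      if h : (l.down : ℕ) < m then (0 : MvPolynomial (Idx.{u} (n - m)) K)
      else MvPolynomial.X (ULift.up ⟨(l.down : ℕ) - m, by omega⟩)) = lin m := MvPolynomial.algHom_ext fun l => by
    rw [AlgHom.comp_apply, MvPolynomial.aeval_X, lin_X]
    split_ifs with hl
    · rw [map_zero]
    · rw [MvPolynomial.aeval_X]
      congr 1
      exact ULift.ext _ _ (Fin.ext (by simp; omega))
  rw [← h, AlgHom.comp_apply]
  exact (congrArg _ (RingHom.mem_ker.1 hf)).trans (map_zero _)

theorem X_mem_sub (m : ℕ) (v : ↥(polySpec.{u} (n - m) K)) (l : Idx.{u} n) (hl : (l.down : ℕ) < m) :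
    MvPolynomial.X l ∈ (sub (K := K) (n := n) m v).asIdeal := by
  show (MvPolynomial.aeval (R := K) fun l : Idx.{u} n =>
    if h : (l.down : ℕ) < m then (0 : MvPolynomial (Idx.{u} (n - m)) K)
    else MvPolynomial.X (ULift.up ⟨(l.down : ℕ) - m, by omega⟩)) (MvPolynomial.X l) ∈ v.asIdeal
  rw [MvPolynomial.aeval_X, dif_pos hl]
  exact zero_mem _

include Φ hδ

theorem deltaCompat_sub (m : ℕ) (i : Fin (n + 1)) :
    ∀ v, ∃ t : ℕ, δ (Φ.g i (sub m v)) = t ∧ topologicalKrullDim (closure ({v} : Set ↥(polySpec.{u} (n - m) K))) = t := by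
  intro v
  obtain ⟨t, ht, hd⟩ := Φ.chart_dim hδ i (sub m v)
  refine ⟨t, ht, ?_⟩
  rw [← hd]
  have himg : (sub (K := K) (n := n) m) '' closure {v} = closure {sub (K := K) (n := n) m v} := by
    rw [← (sub (K := K) (n := n) m).isClosedEmbedding.closure_image_eq, Set.image_singleton]
  rw [← himg]
  exact IsHomeomorph.topologicalKrullDim_eq _
    ((sub (K := K) (n := n) m).isClosedEmbedding.isEmbedding.homeomorphImage _).isHomeomorph

open scoped Classical in
/-- Every point is a multiple of a linear subspace modulo principal divisors. -/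
theorem single_mem (m : ℕ) (hm : m ≤ n) (z : Z) (hz : z ∈ Φ.C m) :
    (Pi.single z 1 : Z → ℤ) ∈ divSpan δ (δ z) ⊔
      AddSubgroup.zmultiples (Pi.single (Φ.xi ((n : ℤ) - δ z).toNat) 1 : Z → ℤ) := by
  haveI := (Φ.isSetup hδ).1
  have hδZ := (Φ.isSetup hδ).2.2
  obtain ⟨hle, heq⟩ := Φ.delta_le_of_mem_C hδ hm hz
  rcases hle.lt_or_eq with hlt | he
  swap
  · rw [show ((n : ℤ) - δ z).toNat = m by omega, ← heq he]
    exact AddSubgroup.mem_sup_right (AddSubgroup.mem_zmultiples _)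
  have hmn : m < n := by have := Φ.delta_nonneg hδ z; omega
  by_cases hC : z ∈ Φ.C (m + 1)
  · exact single_mem (m + 1) hmn z hC
  obtain ⟨i, y, rfl⟩ := Φ.cover z
  have hmi := Φ.le_of_mem_C hz
  let i₀ : Fin (n + 1) := ⟨m, by omega⟩
  have hz0 : Φ.g i y ∈ Set.range (Φ.g i₀) := by
    by_contra hne
    refine hC fun j hj => ?_
    rcases (Nat.lt_succ_iff.1 hj).lt_or_eq with h | h
    · exact hz j h
    · rw [show j = i₀ from Fin.ext h]; exact hne
  obtain ⟨y₀, hy₀⟩ := hz0
  obtain ⟨v, rfl⟩ := mem_range_sub (m := m) ((Φ.mem_C_iff (i := i₀) (m := m) le_rfl y₀).1 (by rw [hy₀]; exact hz))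
  rw [← hy₀] at hlt hz ⊢
  haveI := Φ.open_g i₀
  let h := sub (K := K) (n := n) m ≫ Φ.g i₀
  have hd : ∀ v, ∃ t : ℕ, δ (h v) = t ∧ topologicalKrullDim (closure ({v} : Set ↥(polySpec.{u} (n - m) K))) = t :=
    Φ.deltaCompat_sub hδ m i₀
  obtain ⟨hN, hdv, -, -⟩ := AffBundle.poly_facts (Iso.refl (polySpec.{u} (n - m) K)) hd
  haveI := hN
  have hv := AffBundle.single_mem_divSpan_poly (n - m) K (Iso.refl _) (fun v => δ (h v)) hd v (by
    show δ (Φ.g i₀ (sub m v)) < _
    omega)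
  obtain ⟨ι, _, ξ, g, h1, h2, h3⟩ := exists_sum_of_mem_divSpan hdv hv
  haveI : IsPreimmersion h := inferInstanceAs (IsPreimmersion (sub m ≫ Φ.g i₀))
  choose g' hg' using fun j => (bijective_residueFieldMap h (ξ j)).2 (g j)
  let D : Z → ℤ := ∑ j, Cyc.divFun δ (h (ξ j)) (g' j)
  have hD : D ∈ divSpan δ (δ (h v)) := AddSubgroup.sum_mem _ fun j _ =>
    divFun_mem_divSpan (h1 j) (fun e => h2 j (by rw [← hg', e, map_zero]))
  let ρ : Z → ℤ := Pi.single (h v) 1 - D
  have hρ : ∀ x, ρ x ≠ 0 → x ∈ Φ.C (m + 1) ∧ δ x = δ (h v) := by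
    intro x hx
    by_cases hr : x ∈ Set.range h
    · exfalso
      obtain ⟨w, rfl⟩ := hr
      refine hx ?_
      show (Pi.single (h v) 1 : Z → ℤ) (h w) - D (h w) = 0
      have e1 : (Pi.single (h v) 1 : Z → ℤ) (h w) = (Pi.single v 1 : ↥(polySpec.{u} (n - m) K) → ℤ) w := by
        by_cases e : w = v
        · subst e; rw [Pi.single_eq_same, Pi.single_eq_same]
        · rw [Pi.single_eq_of_ne e, Pi.single_eq_of_ne fun e' => e (h.isEmbedding.injective e')]
      rw [e1, h3, show D (h w) = ∑ j, Cyc.divFun δ (h (ξ j)) (g' j) (h w) from Finset.sum_apply _ _ _, sub_eq_zero]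
      refine Finset.sum_congr rfl fun j _ => ?_
      rw [← hg', divFun_map h hδZ hdv (ξ j) w (g' j)]
    · have hxv : x ≠ h v := fun e => hr ⟨v, e.symm⟩
      obtain ⟨j, hj⟩ : ∃ j, Cyc.divFun δ (h (ξ j)) (g' j) x ≠ 0 := by
        by_contra hall
        push Not at hall
        exact hx (by simp [ρ, D, Pi.single_eq_of_ne hxv, hall])
      obtain ⟨hs, hd'⟩ := specializes_of_divFun_ne_zero hj
      refine ⟨?_, by have := h1 j; omega⟩
      have hxC : x ∈ Φ.C m := Φ.mem_C_of_specializes hs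
        ((Φ.mem_C_iff (i := i₀) le_rfl _).2 fun l hl => X_mem_sub m (ξ j) l hl)
      intro j' hj'
      rcases (Nat.lt_succ_iff.1 hj').lt_or_eq with e | e
      · exact hxC j' e
      · rw [show j' = i₀ from Fin.ext e]
        rintro ⟨w, rfl⟩
        obtain ⟨w', rfl⟩ := mem_range_sub (m := m) ((Φ.mem_C_iff (i := i₀) (m := m) le_rfl w).1 hxC)
        exact hr ⟨w', rfl⟩
  haveI : CompactSpace Z := Φ.compactSpace
  have hfin : (Function.support ρ).Finite := by
    refine ((Set.finite_singleton (h v)).union (Set.finite_iUnion fun j =>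
      finite_support ((Fam.single (δ := δ) (k := δ (h v)) (h1 j)
        (f := g' j) (fun e => h2 j (by rw [← hg', e, map_zero]))).cycle hδZ))).subset fun x hx => ?_
    by_contra hc
    simp only [Set.mem_union, Set.mem_singleton_iff, Set.mem_iUnion, not_or, not_exists, Function.mem_support,
      not_not] at hc
    refine hx ?_
    simp only [ρ, D, Pi.sub_apply, Finset.sum_apply, Pi.single_eq_of_ne hc.1]
    rw [Finset.sum_eq_zero fun j _ => ?_, sub_zero]
    exact (finsum_unique fun _ : PUnit => Cyc.divFun δ (h (ξ j)) (g' j) x).symm.trans (hc.2 j)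
  show (Pi.single (h v) 1 : Z → ℤ) ∈ divSpan δ (δ (h v)) ⊔
    AddSubgroup.zmultiples (Pi.single (Φ.xi ((n : ℤ) - δ (h v)).toNat) 1 : Z → ℤ)
  rw [show (Pi.single (h v) 1 : Z → ℤ) = ρ + D from (sub_add_cancel _ _).symm]
  refine add_mem ?_ (AddSubgroup.mem_sup_left hD)
  rw [show ρ = ∑ x ∈ hfin.toFinset, ρ x • (Pi.single x 1 : Z → ℤ) from funext fun x => by
    rw [Finset.sum_apply, Finset.sum_eq_single x (fun w _ hxw => by simp [Pi.single_eq_of_ne hxw.symm])
      (fun hx => by simp only [Set.Finite.mem_toFinset, Function.mem_support, not_not] at hx; simp [hx])]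
    simp]
  refine AddSubgroup.sum_mem _ fun x hx => AddSubgroup.zsmul_mem _ ?_ _
  obtain ⟨hxC, hxd⟩ := hρ x (hfin.mem_toFinset.1 hx)
  rw [← hxd]
  exact single_mem (m + 1) hmn x hxC
termination_by n - m


open scoped Classical in
theorem finite_support_single (x : Z) : (Function.support (Pi.single x 1 : Z → ℤ)).Finite :=
  (Set.finite_singleton x).subset fun y hy => by_contra fun hne => hy (Pi.single_eq_of_ne hne _)

open scoped Classical in
/-- Iterated first Chern class caps of the fundamental class are the linear subspaces. -/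
theorem iterate_c1 (hL : PicF.IsInvertible L) (t : ℕ → (ξ : Z) → Cyc.secFibre L ξ) (ht : ∀ i ξ, t i ξ ≠ 0)
    (γ : ℕ → Z → ℤ) (h0 : γ 0 = (Pi.single (Φ.xi 0) 1 : Z → ℤ))
    (hs : ∀ i, γ (i + 1) = Cyc.c1CapFun δ L (γ i) (t i)) (m : ℕ) (hm : m ≤ n) :
    (Function.support (γ m)).Finite ∧ (∀ z, δ z ≠ (n : ℤ) - m → γ m z = 0) ∧
      γ m - (Pi.single (Φ.xi m) 1 : Z → ℤ) ∈ divSpan δ ((n : ℤ) - m) := by
  haveI := (Φ.isSetup hδ).1
  haveI : CompactSpace Z := Φ.compactSpace
  have hX := Φ.isSetup hδ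
  induction m with
  | zero =>
    refine ⟨h0 ▸ Φ.finite_support_single hδ _, fun z hz => ?_, by rw [h0, sub_self]; exact zero_mem _⟩
    rw [h0, Pi.single_eq_of_ne]
    rintro rfl
    exact hz (Φ.delta_xi hδ (Nat.zero_le n))
  | succ m ih =>
    obtain ⟨hfin, hdeg, hrel⟩ := ih (by omega)
    let a := cycleOfFinite (γ m) hfin
    let b := cycleOfFinite (Pi.single (Φ.xi m) 1 : Z → ℤ) (Φ.finite_support_single hδ (Φ.xi m))
    let s' : (ξ : Z) → Cyc.secFibre L ξ := fun ξ =>
      if mkF L ξ (Φ.σ ⟨m, by omega⟩ ξ) ≠ 0 then mkF L ξ (Φ.σ ⟨m, by omega⟩ ξ) else t m ξ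
    have hs' : ∀ ξ, s' ξ ≠ 0 := fun ξ => by
      simp only [s']
      split_ifs with h
      · exact h
      · exact ht m ξ
    have hd : (n : ℤ) - m = (n : ℤ) - (m + 1 : ℕ) + 1 := by push_cast; ring
    have hab : Cyc.RatEquivZero δ ((n : ℤ) - (m + 1 : ℕ) + 1) (a - b) := by
      refine ratEquivZero_of_mem_divSpan hX.2.2 ?_
      rw [← hd]
      exact hrel
    have hb : b ∈ Cyc.Zk Z δ ((n : ℤ) - (m + 1 : ℕ) + 1) := fun x hx => by
      show (Pi.single (Φ.xi m) 1 : Z → ℤ) x = 0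
      rw [Pi.single_eq_of_ne]
      rintro rfl
      rw [Φ.delta_xi hδ (show m ≤ n by omega)] at hx
      exact hx hd
    have h1 := mem_divSpan_of_ratEquivZero hX.2.2
      (c1Cap_ratEquivZero hX hL hab (t m) (ht m) (c1Cycle hX.2.2 hL (a - b) (t m)) rfl)
    have h2 := mem_divSpan_of_ratEquivZero hX.2.2 (ratEquiv_c1Cap hX.2.2 hL hb hs' (ht m)
      (γ := c1Cycle hX.2.2 hL b s') (γ' := c1Cycle hX.2.2 hL b (t m)) rfl rfl)
    have hsingle : Cyc.c1CapFun δ L ⇑b s' = (Pi.single (Φ.xi (m + 1)) 1 : Z → ℤ) := funext fun x => by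
      show ∑ᶠ ξ : Z, (Pi.single (Φ.xi m) 1 : Z → ℤ) ξ * Cyc.secDivFun δ L ξ (s' ξ) x = _
      rw [finsum_eq_single _ (Φ.xi m) (fun ξ hξ => by rw [Pi.single_eq_of_ne hξ, zero_mul]), Pi.single_eq_same,
        one_mul, show s' (Φ.xi m) = mkF L (Φ.xi m) (Φ.σ ⟨m, by omega⟩ (Φ.xi m)) from
          if_pos (Φ.mkF_ne_zero hδ (Φ.xi_mem_range hδ (show m ≤ n by omega))),
        Φ.secDivFun_xi hδ (show m < n by omega)]
    refine ⟨?_, fun z hz => ?_, ?_⟩
    · rw [hs]
      exact finite_support (c1Cycle hX.2.2 hL a (t m))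
    · rw [hs]
      refine c1CapFun_eq_zero_of_ne (k := (n : ℤ) - (m + 1 : ℕ)) (fun ξ hξ => hdeg ξ (by omega)) _ hz
    · have e : γ (m + 1) - (Pi.single (Φ.xi (m + 1)) 1 : Z → ℤ) =
          ⇑(c1Cycle hX.2.2 hL (a - b) (t m)) + ⇑(c1Cycle hX.2.2 hL b (t m) - c1Cycle hX.2.2 hL b s') := by
        funext x
        show γ (m + 1) x - (Pi.single (Φ.xi (m + 1)) 1 : Z → ℤ) x =
          Cyc.c1CapFun δ L ⇑(a - b) (t m) x + (Cyc.c1CapFun δ L ⇑b (t m) x - Cyc.c1CapFun δ L ⇑b s' x)
        rw [hsingle, hs]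
        have : Cyc.c1CapFun δ L ⇑(a - b) (t m) x = Cyc.c1CapFun δ L (γ m) (t m) x - Cyc.c1CapFun δ L ⇑b (t m) x := by
          show _ = (∑ᶠ ξ : Z, a ξ * _) - ∑ᶠ ξ : Z, b ξ * _
          rw [← finsum_sub_distrib (finite_support_c1 a (t m) x) (finite_support_c1 b (t m) x)]
          exact finsum_congr fun ξ => sub_mul (a ξ) (b ξ) _
        rw [this]
        ring
      rw [e]
      exact add_mem h1 h2

theorem residueDegree_xi : q.residueDegree (Φ.xi n) = 1 := by
  let s : Spec (CommRingCat.of K) ⟶ polySpec.{u} n K :=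
    Spec.map (CommRingCat.ofHom (MvPolynomial.constantCoeff (σ := Idx.{u} n) (R := K)))
  have hs : s ≫ Φ.g (Fin.last n) ≫ q = 𝟙 _ := by
    rw [Φ.over_g, ← Spec.map_comp, ← CommRingCat.ofHom_comp, ← Spec.map_id]
    congr 1
    ext c
    simp
  let o : ↥(Spec (CommRingCat.of K)) := IsLocalRing.closedPoint K
  have ho : s o = pt n := by
    refine PrimeSpectrum.ext ?_
    ext f
    show MvPolynomial.constantCoeff f ∈ (IsLocalRing.closedPoint K).asIdeal ↔ _
    rw [mem_pt]
    have h : lin (K := K) (n := n) n = (MvPolynomial.aeval (R := K) fun _ : Idx.{u} n => (0 : MvPolynomial (Idx.{u} n) K)) :=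
      MvPolynomial.algHom_ext fun l => by rw [lin_X, if_pos l.down.2, MvPolynomial.aeval_X]
    rw [h, MvPolynomial.aeval_zero', show (IsLocalRing.closedPoint K).asIdeal = ⊥ from IsLocalRing.maximalIdeal_eq_bot,
      Ideal.mem_bot]
    exact ((map_eq_zero_iff _ (RingHom.injective (algebraMap K (MvPolynomial (Idx.{u} n) K))))).symm
  have h1 := WeilCohLib.residueDegree_congr hs o
  rw [WeilCohLib.residueDegree_comp', Scheme.Hom.residueDegree_id, WeilCohLib.residueDegree_comp', ho] at h1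
  exact Nat.eq_one_of_mul_eq_one_right (Nat.eq_one_of_mul_eq_one_right h1)

/-- The degree of a zero-cycle. -/
def deg (q : Z ⟶ Spec (CommRingCat.of K)) (δ : Z → ℤ) (c : Z → ℤ) : ℤ :=
  ∑ᶠ z : Z, c z * (AlgebraicCycle.mapCoeff q δ (fun _ => (0 : ℤ)) z : ℤ)

omit [QuasiCompact q] in
theorem deg_divSpan [IsProper q] {c : Z → ℤ} (hc : c ∈ divSpan δ 0) : deg q δ c = 0 := by
  classical
  haveI := (Φ.isSetup hδ).1
  haveI : CompactSpace Z := Φ.compactSpace
  have hfin : (Function.support c).Finite := by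
    obtain ⟨ι, _, ξ, g, h1, h2, h3⟩ := exists_sum_of_mem_divSpan (Φ.isSetup hδ).2.2 hc
    refine (Set.finite_iUnion fun i => finite_support ((Fam.single (δ := δ) (k := 0) (h1 i) (h2 i)).cycle
      (Φ.isSetup hδ).2.2)).subset fun x hx => ?_
    obtain ⟨i, hi⟩ : ∃ i, Cyc.divFun δ (ξ i) (g i) x ≠ 0 := by
      by_contra hall
      push Not at hall
      exact hx (by simp [h3, hall])
    exact Set.mem_iUnion.2 ⟨i, fun e => hi ((finsum_unique fun _ : PUnit => Cyc.divFun δ (ξ i) (g i) x).symm.trans e)⟩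
  have h := ratEquivZero_map q (Φ.isSetup hδ) (isSetup_spec_field K) hδ
    (ratEquivZero_of_mem_divSpan (Φ.isSetup hδ).2.2 (α := cycleOfFinite c hfin) hc)
  obtain ⟨ι, ξ, g, h1, -, -, h4⟩ := h
  haveI : IsEmpty ι := ⟨fun i => by have := h1 i; simp at this⟩
  have h5 := h4 (IsLocalRing.closedPoint K)
  rw [finsum_of_isEmpty, AlgebraicCycle.map, Function.locallyFinsupp.map_apply] at h5
  rw [← h5, deg, show (q ⁻¹' {IsLocalRing.closedPoint K} : Set Z) = Set.univ from
    Set.eq_univ_of_forall fun z => Subsingleton.elim _ _, finsum_mem_univ]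
  rfl

theorem deg_single_xi : deg q δ (open scoped Classical in (Pi.single (Φ.xi n) 1 : Z → ℤ)) = 1 := by
  classical
  rw [deg, finsum_eq_single _ (Φ.xi n) (fun z hz => by rw [Pi.single_eq_of_ne hz, zero_mul]), Pi.single_eq_same,
    one_mul, AlgebraicCycle.mapCoeff, if_pos (by rw [Φ.delta_xi hδ le_rfl]; ring), Φ.residueDegree_xi hδ]
  rfl

end PFib

end Groth.Agent.CycLib.PB
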