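import Groth.Agent.CycLib.PB.Chart
import Groth.Agent.CycLib.PB.FibCycle
import Groth.Agent.ProjBundleLib.Exist
import Groth.Agent.CycLib.AffineFib
import Groth.Agent.DegDevLib.Wedge

/-! # The fibres of a projective bundle are projective spaces -/

set_option autoImplicit false
set_option backward.isDefEq.respectTransparency false
set_option linter.style.haveILetI false

universe u

open CategoryTheory CategoryTheory.Limits AlgebraicGeometry TopologicalSpace

noncomputable section

namespace Groth.Agent.CycLib.PB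

open AffBundle (polySpec Idx)

variable {Y P : Scheme.{u}} {p : P ⟶ Y}

/-- The point of the base under a point of a fibre. -/
theorem apply_fiberι (x : Y) (z : ↥(p.fiber x)) : p (p.fiberι x z) = x := by
  have : p.fiberι x z ∈ p ⁻¹' {x} := by rw [← Scheme.Hom.range_fiberι]; exact ⟨z, rfl⟩
  exact this

/-- Germs of appLE. -/
theorem stalkMap_germ_top {A B : Scheme.{u}} (h : A ⟶ B) {V : B.Opens} (e : ⊤ ≤ h ⁻¹ᵁ V) (y : A) (c : Γ(B, V)) :
    h.stalkMap y (B.presheaf.germ V (h y) (e (show y ∈ (⊤ : A.Opens) from trivial)) c) =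
      A.presheaf.germ ⊤ y trivial (h.appLE V ⊤ e c) :=
  PullbackMod.germ_stalkMap_appLE (W := V) (W' := ⊤) h y _ trivial e c

variable {U : Y.Opens} (hU : IsAffineOpen U) {x : Y} (hx : x ∈ U) {n : ℕ}

/-- Evaluation at a point. -/
def ev : Γ(Y, U) →+* Y.residueField x := (Y.presheaf.germ U x hx ≫ Y.residue x).hom

theorem specMap_ev : Spec.map (CommRingCat.ofHom (ev hx)) ≫ hU.fromSpec = Y.fromSpecResidueField x := by
  rw [Scheme.fromSpecResidueField, ← hU.fromSpecStalk_eq_fromSpecStalk hx, IsAffineOpen.fromSpecStalk,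
    ← Category.assoc, ← Spec.map_comp]
  rfl

/-- The reduction of the polynomial ring. -/
def mapK : MvPolynomial (Idx.{u} n) Γ(Y, U) →+* MvPolynomial (Idx.{u} n) (Y.residueField x) :=
  MvPolynomial.map (ev hx)

theorem mapK_cpoly (i j : Fin (n + 1)) : mapK hx (cpoly i j) = cpoly i j := by
  rcases Fin.eq_self_or_eq_succAbove i j with rfl | ⟨l, rfl⟩
  · simp only [cpoly, finSuccEquiv'_at, Option.elim, map_one]
  · simp only [cpoly, finSuccEquiv'_succAbove, Option.elim, mapK, MvPolynomial.map_X]

theorem isPullback_spec : IsPullback (Spec.map (CommRingCat.ofHom (MvPolynomial.C (σ := Idx.{u} n) (R := Y.residueField x))))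
    (Spec.map (CommRingCat.ofHom (mapK (n := n) hx))) (Spec.map (CommRingCat.ofHom (ev hx)))
    (Spec.map (CommRingCat.ofHom (MvPolynomial.C (σ := Idx.{u} n) (R := Γ(Y, U))))) := by
  letI : Algebra Γ(Y, U) (Y.residueField x) := (ev hx).toAlgebra
  letI : Algebra (MvPolynomial (Idx.{u} n) Γ(Y, U)) (MvPolynomial (Idx.{u} n) (Y.residueField x)) :=
    MvPolynomial.algebraMvPolynomial
  haveI : Algebra.IsPushout Γ(Y, U) (Y.residueField x) (MvPolynomial (Idx.{u} n) Γ(Y, U))
      (MvPolynomial (Idx.{u} n) (Y.residueField x)) := inferInstance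
  exact isPullback_SpecMap_of_isPushout _ _ _ _ (CommRingCat.isPushout_of_isPushout Γ(Y, U) (Y.residueField x)
    (MvPolynomial (Idx.{u} n) Γ(Y, U)) (MvPolynomial (Idx.{u} n) (Y.residueField x)))

variable {E : Y.Modules} {O1 : P.Modules} {φ : E ⟶ (Scheme.Modules.pushforward p).obj O1}
  (D : ProjBundleLib.PData p E O1 φ) (b : Module.Basis (Fin (n + 1)) Γ(Y, U) Γ(E, U))

theorem chart_cond (i : Fin (n + 1)) :
    (Spec.map (CommRingCat.ofHom (mapK (n := n) hx)) ≫ chartMap D hU b i) ≫ p =
      Spec.map (CommRingCat.ofHom (MvPolynomial.C (σ := Idx.{u} n) (R := Y.residueField x))) ≫ Y.fromSpecResidueField x := by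
  rw [Category.assoc, chartMap_p, ← specMap_ev hU hx, ← Category.assoc, ← Category.assoc,
    (isPullback_spec hx).w]

/-- The standard chart of a fibre. -/
def fibChart (i : Fin (n + 1)) : polySpec.{u} n (Y.residueField x) ⟶ p.fiber x :=
  pullback.lift (Spec.map (CommRingCat.ofHom (mapK (n := n) hx)) ≫ chartMap D hU b i)
    (Spec.map (CommRingCat.ofHom (MvPolynomial.C (σ := Idx.{u} n) (R := Y.residueField x))))
    (chart_cond hU hx D b i)

theorem fibChart_ι (i : Fin (n + 1)) :
    fibChart hU hx D b i ≫ p.fiberι x = Spec.map (CommRingCat.ofHom (mapK (n := n) hx)) ≫ chartMap D hU b i :=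
  pullback.lift_fst _ _ _

theorem fibChart_str (i : Fin (n + 1)) :
    fibChart hU hx D b i ≫ p.fiberToSpecResidueField x =
      Spec.map (CommRingCat.ofHom (MvPolynomial.C (σ := Idx.{u} n) (R := Y.residueField x))) :=
  pullback.lift_snd _ _ _

theorem isPullback_fibChart (i : Fin (n + 1)) :
    IsPullback (fibChart hU hx D b i) (Spec.map (CommRingCat.ofHom (mapK (n := n) hx))) (p.fiberι x)
      (chartMap D hU b i) := by
  have h1 := (isPullback_spec (n := n) hx).paste_horiz
    (IsPullback.of_horiz_isIso_mono (fst := 𝟙 _) (snd := Spec.map (CommRingCat.ofHom (ev hx)))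
      (f := Spec.map (CommRingCat.ofHom (ev hx)) ≫ hU.fromSpec) (g := hU.fromSpec) ⟨by simp⟩)
  rw [Category.comp_id, specMap_ev, ← chartMap_p D hU b i, ← fibChart_str hU hx D b i] at h1
  exact IsPullback.of_right h1 (fibChart_ι hU hx D b i) (IsPullback.of_hasPullback p (Y.fromSpecResidueField x)).flip

instance isOpenImmersion_fibChart (i : Fin (n + 1)) : IsOpenImmersion (fibChart hU hx D b i) :=
  MorphismProperty.of_isPullback (isPullback_fibChart hU hx D b i).flip inferInstance

theorem mem_range_fibChart {i : Fin (n + 1)} {z : ↥(p.fiber x)} :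
    z ∈ Set.range (fibChart hU hx D b i) ↔ p.fiberι x z ∈ D.DPl hU (b i) := by
  rw [← (isPullback_fibChart hU hx D b i).isoPullback_hom_fst, Scheme.Hom.comp_base, TopCat.coe_comp, Set.range_comp,
    Set.range_eq_univ.2 (isPullback_fibChart hU hx D b i).isoPullback.hom.surjective, Set.image_univ]
  rw [← SetLike.mem_coe, ← range_chartMap D hU b i]
  exact Set.ext_iff.1 (Scheme.Pullback.range_fst (f := p.fiberι x) (g := chartMap D hU b i)) z

/-- A point of the fibre is over the open. -/
theorem fiberι_mem (hx : x ∈ U) (z : ↥(p.fiber x)) : p (p.fiberι x z) ∈ U := (apply_fiberι x z).symm ▸ hx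

/-- The coordinate sections on a fibre. -/
def fibSec (j : Fin (n + 1)) (z : ↥(p.fiber x)) : ((Scheme.Modules.pullback (p.fiberι x)).obj O1).presheaf.stalk z :=
  PullbackMod.pullStalk (p.fiberι x) O1 z (ProjBundleLib.germφ φ (p.fiberι x z) (fiberι_mem hx z) (b j))

/-- The fibre of a projective bundle, as a projective space. -/
def pfib : PFib (K := Y.residueField x) (p.fiberToSpecResidueField x) ((Scheme.Modules.pullback (p.fiberι x)).obj O1) n where
  g := fibChart hU hx D b
  open_g i := inferInstance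
  over_g := fibChart_str hU hx D b
  cover z := by
    obtain ⟨i, hi⟩ := cover_chartMap D hU b (fiberι_mem hx z)
    exact ⟨i, (mem_range_fibChart hU hx D b).2 hi⟩
  σ := fibSec hx b
  σ_sp j {a c} h := by
    rw [fibSec, stalkSpecializes_pullStalk, ProjBundleLib.germφ, TopCat.Presheaf.germ_stalkSpecializes_apply]
    rfl
  gen i z := by
    haveI := D.isQCoh_O1
    rw [mem_range_fibChart]
    refine ⟨fun h => ProjBundleLib.bijective_pullStalk_gen _ z (D.bijective_germφ hU (b i) h), fun h => ?_⟩
    obtain ⟨j, hj⟩ := cover_chartMap D hU b (fiberι_mem hx z)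
    unfold fibSec at h
    rw [D.germφ_eq hU (b j) (b i) hj, PullbackMod.pullStalk_smul,
      AmpleLib.bijective_smul_iff (ProjBundleLib.bijective_pullStalk_gen _ z (D.bijective_germφ hU (b j) hj))] at h
    have := (Scheme.mem_basicOpen _ (D.coord hU (b j) (b i)) _ hj).2 (isUnit_of_map_unit ((p.fiberι x).stalkMap z).hom _ h)
    rw [D.basicOpen_coord hU] at this
    exact this.2
  rel i j y := by
    have hm : p.fiberι x (fibChart hU hx D b i y) ∈ D.DPl hU (b i) := (mem_range_fibChart hU hx D b).1 ⟨y, rfl⟩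
    refine ⟨(p.fiberι x).stalkMap _ (P.presheaf.germ _ _ hm (D.coord hU (b i) (b j))), ?_, ?_⟩
    · rw [fibSec, fibSec, D.germφ_eq hU (b i) (b j) hm, PullbackMod.pullStalk_smul]
    · let f : Γ(P, D.DPl hU (b i)) ⟶ CommRingCat.of (MvPolynomial (Idx.{u} n) (Y.residueField x)) :=
        CommRingCat.ofHom ((mapK hx).comp (chartEquiv D hU b i).symm.toRingHom)
      have hf : fibChart hU hx D b i ≫ p.fiberι x = Spec.map f ≫ (D.isAffineOpen_DPl hU (b i)).fromSpec := by
        rw [fibChart_ι, chartMap, ← Category.assoc, ← Spec.map_comp]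
        rfl
      have key : ∀ (h : polySpec.{u} n (Y.residueField x) ⟶ P) (_ : h = Spec.map f ≫ (D.isAffineOpen_DPl hU (b i)).fromSpec)
          (hy : h y ∈ D.DPl hU (b i)), h.stalkMap y (P.presheaf.germ _ _ hy (D.coord hU (b i) (b j))) =
            StructureSheaf.toStalk (MvPolynomial (Idx.{u} n) (Y.residueField x)) y (cpoly i j) := by
        rintro _ rfl hy
        have e : (⊤ : (polySpec.{u} n (Y.residueField x)).Opens) ≤
            (Spec.map f ≫ (D.isAffineOpen_DPl hU (b i)).fromSpec) ⁻¹ᵁ D.DPl hU (b i) := fun w _ => by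
          show (Spec.map f ≫ (D.isAffineOpen_DPl hU (b i)).fromSpec) w ∈ ((D.DPl hU (b i) : P.Opens) : Set P)
          rw [← (D.isAffineOpen_DPl hU (b i)).range_fromSpec]
          exact ⟨Spec.map f w, rfl⟩
        rw [stalkMap_germ_top _ e, appLE_specMap_fromSpec]
        show (Spec (CommRingCat.of _)).presheaf.germ ⊤ y trivial ((Scheme.ΓSpecIso _).inv
          (mapK hx ((chartEquiv D hU b i).symm (D.coord hU (b i) (b j))))) = _
        rw [chartEquiv_symm_coord, mapK_cpoly]
        rfl
      rw [← key _ hf hm, Scheme.Hom.stalkMap_comp]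
      rfl

end Groth.Agent.CycLib.PB
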