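import Groth.Agent.CycLib.AffineFib

/-! # Linear subspaces of affine space over a field -/

set_option autoImplicit false
set_option backward.isDefEq.respectTransparency false
set_option linter.style.haveILetI false

universe u

open CategoryTheory CategoryTheory.Limits AlgebraicGeometry TopologicalSpace

noncomputable section

namespace Groth.Agent.CycLib.PB

open AffBundle (polySpec Idx)

variable {K : Type u} [Field K] {n : ℕ}

/-- Kill the first `m` variables. -/
def lin (m : ℕ) : MvPolynomial (Idx.{u} n) K →ₐ[K] MvPolynomial (Idx.{u} n) K :=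
  MvPolynomial.aeval fun l => if (l.down : ℕ) < m then 0 else MvPolynomial.X l

theorem lin_X (m : ℕ) (l : Idx.{u} n) : lin (K := K) m (MvPolynomial.X l) = if (l.down : ℕ) < m then 0 else MvPolynomial.X l :=
  MvPolynomial.aeval_X _ l

/-- The generic point of a linear subspace. -/
def pt (m : ℕ) : ↥(polySpec.{u} n K) := ⟨RingHom.ker (lin (K := K) (n := n) m).toRingHom, RingHom.ker_isPrime _⟩

theorem mem_pt {m : ℕ} {f : MvPolynomial (Idx.{u} n) K} : f ∈ (pt (K := K) (n := n) m).asIdeal ↔ lin m f = 0 := Iff.rfl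

theorem X_mem_pt_iff {m : ℕ} {l : Idx.{u} n} : MvPolynomial.X l ∈ (pt (K := K) (n := n) m).asIdeal ↔ (l.down : ℕ) < m := by
  rw [mem_pt, lin_X]
  split_ifs with h
  · simp [h]
  · simp [h, MvPolynomial.X_ne_zero]

theorem one_notMem_pt (m : ℕ) : (1 : MvPolynomial (Idx.{u} n) K) ∉ (pt (K := K) (n := n) m).asIdeal := fun h =>
  (pt (K := K) (n := n) m).2.ne_top ((Ideal.eq_top_iff_one _).2 h)

theorem sub_lin_mem {m : ℕ} {Q : Ideal (MvPolynomial (Idx.{u} n) K)}
    (hQ : ∀ l : Idx.{u} n, (l.down : ℕ) < m → MvPolynomial.X l ∈ Q) (f : MvPolynomial (Idx.{u} n) K) :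
    f - lin m f ∈ Q := by
  rw [← Ideal.Quotient.eq]
  have h : (Ideal.Quotient.mkₐ K Q).comp (lin m) = Ideal.Quotient.mkₐ K Q := MvPolynomial.algHom_ext fun l => by
    rw [AlgHom.comp_apply, lin_X]
    split_ifs with hl
    · rw [map_zero]
      exact (Ideal.Quotient.eq_zero_iff_mem.2 (hQ l hl)).symm
    · rfl
  exact (congrArg (fun φ : _ →ₐ[K] _ => φ f) h).symm

theorem pt_le {m : ℕ} {y : ↥(polySpec.{u} n K)}
    (hy : ∀ l : Idx.{u} n, (l.down : ℕ) < m → MvPolynomial.X l ∈ y.asIdeal) : (pt (K := K) (n := n) m).asIdeal ≤ y.asIdeal := by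
  intro f hf
  have := sub_lin_mem hy f
  rwa [mem_pt.1 hf, sub_zero] at this

theorem pt_specializes {m : ℕ} {y : ↥(polySpec.{u} n K)}
    (hy : ∀ l : Idx.{u} n, (l.down : ℕ) < m → MvPolynomial.X l ∈ y.asIdeal) : pt (K := K) (n := n) m ⤳ y :=
  (PrimeSpectrum.le_iff_specializes _ _).1 (pt_le hy)

theorem pt_specializes_succ (m : ℕ) : pt (K := K) (n := n) m ⤳ pt (m + 1) :=
  pt_specializes fun _ hl => X_mem_pt_iff.2 (Nat.lt_succ_of_lt hl)

/-- The ideal of the next linear subspace. -/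
theorem mem_pt_succ {m : ℕ} (hm : m < n) {f : MvPolynomial (Idx.{u} n) K}
    (hf : f ∈ (pt (K := K) (n := n) (m + 1)).asIdeal) :
    ∃ h c, h ∈ (pt (K := K) (n := n) m).asIdeal ∧ f = h + c * MvPolynomial.X (ULift.up ⟨m, hm⟩) := by
  let Q : Ideal (MvPolynomial (Idx.{u} n) K) :=
    (pt (K := K) (n := n) m).asIdeal ⊔ Ideal.span {MvPolynomial.X (ULift.up ⟨m, hm⟩)}
  have h : f ∈ Q := by
    have := sub_lin_mem (m := m + 1) (Q := Q) (fun l hl => ?_) f
    · rwa [mem_pt.1 hf, sub_zero] at this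
    · rcases (Nat.lt_succ_iff.1 hl).lt_or_eq with h | h
      · exact Ideal.mem_sup_left (X_mem_pt_iff.2 h)
      · refine Ideal.mem_sup_right ?_
        rw [show l = ULift.up ⟨m, hm⟩ from ULift.ext _ _ (Fin.ext h)]
        exact Ideal.mem_span_singleton_self _
  obtain ⟨h', hh, g, hg, rfl⟩ := Submodule.mem_sup.1 h
  obtain ⟨c, rfl⟩ := Ideal.mem_span_singleton'.1 hg
  exact ⟨h', c, hh, rfl⟩

variable {δ : ↥(polySpec.{u} n K) → ℤ}
  (hδ : ∀ z, ∃ t : ℕ, δ z = t ∧ topologicalKrullDim (closure ({z} : Set ↥(polySpec.{u} n K))) = t)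
include hδ

theorem delta_pt {m : ℕ} (hm : m ≤ n) : δ (pt m) = (n : ℤ) - m := by
  obtain ⟨-, hd, -, hgen⟩ := AffBundle.poly_facts (Iso.refl (polySpec.{u} n K)) hδ
  have hstep : ∀ j, j < n → δ (pt (j + 1)) + 1 ≤ δ (pt j) := fun j hj => by
    have hne : pt (K := K) (n := n) j ≠ pt (j + 1) := fun e => by
      have h1 : (MvPolynomial.X (ULift.up ⟨j, hj⟩) : MvPolynomial (Idx.{u} n) K) ∈ (pt (K := K) (n := n) (j + 1)).asIdeal :=
        X_mem_pt_iff.2 (Nat.lt_succ_self j)
      rw [← e, X_mem_pt_iff] at h1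
      exact lt_irrefl _ h1
    have := (hd _ _ (pt_specializes_succ j) hne).1
    omega
  have hup : ∀ j, j ≤ n → δ (pt j) ≤ (n : ℤ) - j := by
    intro j
    induction j with
    | zero =>
      intro _
      haveI := AffBundle.isIntegral_poly (Iso.refl (polySpec.{u} n K))
      simpa using (hgen.2 (pt 0)).1
    | succ j ih =>
      intro hj
      have h1 := hstep j (by omega)
      have h2 := ih (by omega)
      push_cast
      omega
  have hlow : ∀ d j, j + d = n → (d : ℤ) ≤ δ (pt j) := by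
    intro d
    induction d with
    | zero =>
      intro j _
      obtain ⟨t, ht, -⟩ := hδ (pt j)
      omega
    | succ d ih =>
      intro j hj
      have h1 := hstep j (by omega)
      have h2 := ih (j + 1) (by omega)
      push_cast
      omega
  have h1 := hup m hm
  have h2 := hlow (n - m) m (by omega)
  omega

end Groth.Agent.CycLib.PB

namespace Groth.Agent.CycLib.PB

/-- The order of a function cutting out a point on the closure of another one. -/
theorem ordAt_spec {A : Type u} [CommRing A] [IsLocallyNoetherian (Spec (CommRingCat.of A))]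
    {δ : ↥(Spec (CommRingCat.of A)) → ℤ} (hdim : Cyc.IsDimFun (Spec (CommRingCat.of A)) δ)
    {x ξ : ↥(Spec (CommRingCat.of A))} (h : ξ ⤳ x) (hd : δ x + 1 = δ ξ) {a : A} (ha : a ∈ x.asIdeal)
    (ha' : a ∉ ξ.asIdeal) (hx : ∀ f : A, f ∈ x.asIdeal → ∃ g c : A, g ∈ ξ.asIdeal ∧ f = g + c * a) :
    Cyc.ordAt x ξ h (Cyc.specMap x ξ h (StructureSheaf.toStalk A x a)) = 1 := by
  letI ax : Algebra A ((Spec (CommRingCat.of A)).presheaf.stalk x) := StructureSheaf.stalkAlgebra A x
  letI aξ : Algebra A ((Spec (CommRingCat.of A)).presheaf.stalk ξ) := StructureSheaf.stalkAlgebra A ξ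
  haveI : IsLocalization.AtPrime ((Spec (CommRingCat.of A)).presheaf.stalk x) x.asIdeal :=
    StructureSheaf.IsLocalization.to_stalk A x
  haveI : IsLocalization.AtPrime ((Spec (CommRingCat.of A)).presheaf.stalk ξ) ξ.asIdeal :=
    StructureSheaf.IsLocalization.to_stalk A ξ
  have hsp : ∀ f : A, Cyc.specMap x ξ h (algebraMap A _ f) =
      (Spec (CommRingCat.of A)).residue ξ (algebraMap A _ f) := fun f =>
    congrArg ((Spec (CommRingCat.of A)).residue ξ)
      (ConcreteCategory.congr_hom (StructureSheaf.toStalk_stalkSpecializes (R := A) h) f)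
  have hker : ∀ f : A, Cyc.specMap x ξ h (algebraMap A _ f) = 0 ↔ f ∈ ξ.asIdeal := fun f => by
    rw [hsp]
    exact (IsLocalRing.residue_eq_zero_iff _).trans
      (IsLocalization.AtPrime.to_map_mem_maximal_iff ((Spec (CommRingCat.of A)).presheaf.stalk ξ) ξ.asIdeal f _)
  show Cyc.ordAt x ξ h (Cyc.specMap x ξ h (algebraMap A _ a)) = 1
  rw [ordAt_specMap hdim h hd (fun e => ha' ((hker a).1 e)), Ring.ord]
  let mk := Ideal.Quotient.mk (RingHom.ker (Cyc.specMap x ξ h))
  have hmax : Ideal.span {mk (algebraMap A _ a)} =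
      (IsLocalRing.maximalIdeal ((Spec (CommRingCat.of A)).presheaf.stalk x)).map mk := by
    refine le_antisymm ((Ideal.span_singleton_le_iff_mem _).2 (Ideal.mem_map_of_mem _
      ((IsLocalization.AtPrime.to_map_mem_maximal_iff _ x.asIdeal a _).2 ha))) ?_
    rw [← IsLocalization.AtPrime.map_eq_maximalIdeal x.asIdeal ((Spec (CommRingCat.of A)).presheaf.stalk x),
      Ideal.map_map, Ideal.map_le_iff_le_comap]
    intro f hf
    obtain ⟨g, c, hg, rfl⟩ := hx f hf
    rw [Ideal.mem_comap, map_add, map_mul]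
    refine Ideal.add_mem _ ?_ (Ideal.mul_mem_left _ _ (Ideal.mem_span_singleton_self _))
    rw [RingHom.comp_apply, Ideal.Quotient.eq_zero_iff_mem.2 (RingHom.mem_ker.2 ((hker g).2 hg))]
    exact zero_mem _
  have hM : (Ideal.span {mk (algebraMap A _ a)}).IsMaximal := by
    rw [hmax]
    exact Ideal.IsMaximal.map_of_surjective_of_ker_le Ideal.Quotient.mk_surjective
      (by rw [Ideal.mk_ker]; exact IsLocalRing.le_maximalIdeal (isPrime_ker h).ne_top)
  have hlen : Module.length (Cyc.LocQuot x ξ h) (Cyc.LocQuot x ξ h ⧸ Ideal.span {mk (algebraMap A _ a)}) = 1 :=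
    Module.length_eq_one_iff.2 (isSimpleModule_iff_isCoatom.2 hM.out)
  rw [hlen]
  rfl

end Groth.Agent.CycLib.PB
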