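import Groth.Agent.CycLib.PB.Seq
import Groth.Agent.CycLib.RatPull

/-! # The projective bundle formula -/

set_option autoImplicit false
set_option backward.isDefEq.respectTransparency false
set_option linter.style.haveILetI false

universe u

open CategoryTheory CategoryTheory.Limits AlgebraicGeometry TopologicalSpace

noncomputable section

namespace Groth.Agent.CycLib.PB

open AffBundle (fibDelta)

variable {X P : Scheme.{u}} {p : P ⟶ X}

namespace Setting

variable {O1 : P.Modules} {δP : P → ℤ} {δ : X → ℤ} {n : ℕ} (S : Setting p O1 δP δ n)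
  [IsLocallyNoetherian P] [IsLocallyNoetherian X]

/-- Each term of the sum as a homomorphism. -/
def seqHom (S : Setting p O1 δP δ n) (t : ℕ → (ξ : P) → Cyc.secFibre O1 ξ) (m : ℕ) :
    AlgebraicCycle X ℤ →+ AlgebraicCycle P ℤ :=
  AddMonoidHom.mk' (fun α => S.seq t α m) fun a b => by
    show capSeq _ _ t (S.pullC (a + b)) m = _
    rw [show S.pullC (a + b) = S.pullC a + S.pullC b from ?_, capSeq_add]
    · rfl
    · ext w
      show Cyc.pullFun p δP δ n ⇑(a + b) w = Cyc.pullFun p δP δ n ⇑a w + Cyc.pullFun p δP δ n ⇑b w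
      rw [S.pullFun_eq, S.pullFun_eq, S.pullFun_eq]
      split_ifs
      · rfl
      · simp

theorem seq_mem_Zk (t : ℕ → (ξ : P) → Cyc.secFibre O1 ξ) {j : ℤ} {α : AlgebraicCycle X ℤ} (hα : α ∈ Cyc.Zk X δ j)
    (m : ℕ) : S.seq t α m ∈ Cyc.Zk P δP (j + n - m) := fun w hw =>
  by_contra fun h => hw (S.seq_support t hα m w h).1

/-- Injectivity in the projective bundle formula. -/
theorem injective (t : Fin (n + 1) → ℕ → (ξ : P) → Cyc.secFibre O1 ξ) (ht : ∀ i m ξ, t i m ξ ≠ 0) (k : ℤ)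
    (α : Fin (n + 1) → AlgebraicCycle X ℤ) (hα : ∀ i : Fin (n + 1), α i ∈ Cyc.Zk X δ (k + ((i : ℕ) : ℤ))) :
    ∀ m, m ≤ n + 1 →
      Cyc.RatEquivZero δP (k + n) (Finset.sum (Finset.univ.filter fun i : Fin (n + 1) => (i : ℕ) < m)
        fun i : Fin (n + 1) => S.seq (t i) (α i) (i : ℕ)) →
      ∀ i : Fin (n + 1), (i : ℕ) < m → Cyc.RatEquivZero δ (k + ((i : ℕ) : ℤ)) (α i)
  | 0, _, _, i, hi => absurd hi (Nat.not_lt_zero _)
  | m + 1, hm, h, i, hi => by
    classical
    haveI := S.proper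
    haveI := S.flat
    haveI := S.lft
    let i₀ : Fin (n + 1) := ⟨m, by omega⟩
    have hfl : Finset.univ.filter (fun i : Fin (n + 1) => (i : ℕ) < m + 1) =
        insert i₀ (Finset.univ.filter fun i : Fin (n + 1) => (i : ℕ) < m) := by
      ext i
      simp only [Finset.mem_filter, Finset.mem_univ, true_and, Finset.mem_insert, i₀, Fin.ext_iff]
      omega
    have hnm : i₀ ∉ Finset.univ.filter fun i : Fin (n + 1) => (i : ℕ) < m := by simp [i₀]
    have h1 := capSeq_ratEquivZero S.hP.2.2 S.inv S.hP (t i₀) (ht i₀) h (n - m)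
    rw [show k + n - ((n - m : ℕ) : ℤ) = k + m by push_cast [show m ≤ n by omega]; ring] at h1
    have h2 := ratEquivZero_map p S.hP S.hX S.hδ h1
    have hterm : ∀ i : Fin (n + 1), (i : ℕ) ≤ m →
        AlgebraicCycle.map p δP δ (capSeq S.hP.2.2 S.inv (t i₀) (S.seq (t i) (α i) i) (n - m)) =
          if (i : ℕ) = m then α i else 0 := by
      intro i hle
      rw [seq, capSeq_capSeq]
      split_ifs with e
      · rw [show (i : ℕ) + (n - m) = n by omega]
        refine S.mapHom_seq_self _ (fun l ξ => ?_) (hα i)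
        show (if l < (i : ℕ) then t i l else t i₀ (l - i)) ξ ≠ 0
        split_ifs
        exacts [ht i l ξ, ht i₀ _ ξ]
      · refine S.mapHom_seq_of_lt _ (hα i) ?_
        omega
    have h3 : AlgebraicCycle.map p δP δ (capSeq S.hP.2.2 S.inv (t i₀)
        (∑ i ∈ Finset.univ.filter (fun i : Fin (n + 1) => (i : ℕ) < m + 1), S.seq (t i) (α i) i) (n - m)) = α i₀ := by
      show (S.mapHom.comp (capHom S.hP.2.2 S.inv (t i₀) (n - m))) _ = _
      rw [map_sum]
      show ∑ i ∈ _, AlgebraicCycle.map p δP δ (capSeq _ _ _ _ _) = _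
      rw [Finset.sum_eq_single i₀]
      · rw [hterm i₀ le_rfl, if_pos rfl]
      · intro i hi hne
        simp only [Finset.mem_filter, Finset.mem_univ, true_and] at hi
        rw [hterm i (by omega), if_neg fun e => hne (Fin.ext e)]
      · intro h'
        exact absurd (hfl ▸ Finset.mem_insert_self _ _) h'
    rw [h3] at h2
    rcases (Nat.lt_succ_iff.1 hi).lt_or_eq with hlt | heq
    swap
    · rw [show i = i₀ from Fin.ext heq]; exact h2
    refine injective t ht k α hα m (by omega) ?_ i hlt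
    have h4 := capSeq_ratEquivZero S.hP.2.2 S.inv S.hP (t i₀) (ht i₀)
      (ratEquivZero_pull S.isShift S.hP.2.2 S.hX.2.2 h2 (S.pullC (α i₀)) rfl) m
    rw [show k + (m : ℤ) + n - m = k + n by ring] at h4
    rw [hfl, Finset.sum_insert hnm] at h
    have h5 := ratEquivZero_sub S.hP.2.2 h h4
    rwa [show capSeq S.hP.2.2 S.inv (t i₀) (S.pullC (α i₀)) m = S.seq (t i₀) (α i₀) i₀ from rfl,
      add_sub_cancel_left] at h5

/-- The multiplicity of the class of a fibre. -/
def gfun (S : Setting p O1 δP δ n) (t : ℕ → (ξ : P) → Cyc.secFibre O1 ξ) (m : ℕ) (v : P) : ℤ :=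
  S.fibSeq t (p v) m (p.asFiber v)

theorem gfun_fiberι (t : ℕ → (ξ : P) → Cyc.secFibre O1 ξ) (m : ℕ) (x : X) (z : ↥(p.fiber x)) :
    S.gfun t m (p.fiberι x z) = S.fibSeq t x m z := by
  have key : ∀ (v : P) (x : X) (z : ↥(p.fiber x)), p v = x → p.fiberι x z = v → S.gfun t m v = S.fibSeq t x m z := by
    rintro v x z rfl hz
    rw [gfun, show p.asFiber v = z from
      (p.fiberι (p v)).isEmbedding.injective ((p.fiberι_asFiber v).trans hz.symm)]
  exact key _ x z (apply_fiberι x z) rfl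

theorem seq_gfun (t : ℕ → (ξ : P) → Cyc.secFibre O1 ξ) {j : ℤ} {α : AlgebraicCycle X ℤ} (hα : α ∈ Cyc.Zk X δ j)
    (m : ℕ) (v : P) (hv : δ (p v) = j) : S.seq t α m v = α (p v) * S.gfun t m v := by
  obtain ⟨z, hz⟩ := exists_fiberι (rfl : p v = p v)
  have := S.seq_fiber t hα hv m z
  rw [← S.gfun_fiberι t m (p v) z, hz] at this
  exact this

open scoped Classical in
/-- A point is a multiple of the class of its fibre modulo divisors on the fibre. -/
theorem exists_point_data (t : ℕ → (ξ : P) → Cyc.secFibre O1 ξ) (ht : ∀ i ξ, t i ξ ≠ 0) (k : ℤ) {m : ℕ} (hm : m ≤ n)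
    (w : P) (hw : δP w = k + n) (hwm : δ (p w) = k + m) :
    ∃ (d : ℤ) (ι : Type) (_ : Fintype ι) (ξ : ι → P) (g : ∀ i, P.residueField (ξ i)),
      (∀ i, p (ξ i) = p w) ∧ (∀ i, δP (ξ i) = k + n + 1) ∧ (∀ i, g i ≠ 0) ∧
      ∀ v, p v = p w → ∑ i, Cyc.divFun δP (ξ i) (g i) v = (Pi.single w 1 : P → ℤ) v - d * S.gfun t m v := by
  haveI := S.lft_fib (p w)
  haveI := S.qc_fib (p w)
  haveI := S.noeth_fib (p w)
  let Φ := (S.fib (p w)).some
  have hc := S.compat_fib (p w)
  have hd : Cyc.IsDimFun (p.fiber (p w)) (fibDelta p δP δ (p w)) := (Φ.isSetup hc).2.2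
  obtain ⟨z, hz⟩ := exists_fiberι (rfl : p w = p w)
  have hzd : fibDelta p δP δ (p w) z = (n : ℤ) - m := by simp only [fibDelta, hz]; omega
  have h1 := Φ.single_mem hc 0 (Nat.zero_le n) z (by rw [Φ.C_zero]; trivial)
  rw [hzd, show ((n : ℤ) - ((n : ℤ) - m)).toNat = m by omega] at h1
  obtain ⟨a, ha, b, hb, hab⟩ := AddSubgroup.mem_sup.1 h1
  obtain ⟨d, rfl⟩ := AddSubgroup.mem_zmultiples_iff.1 hb
  obtain ⟨-, -, h2⟩ := S.fibSeq_class t ht (p w) hm
  have h3 : (Pi.single z 1 : ↥(p.fiber (p w)) → ℤ) - d • S.fibSeq t (p w) m ∈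
      divSpan (fibDelta p δP δ (p w)) ((n : ℤ) - m) := by
    rw [← hab, show a + d • (Pi.single (Φ.xi m) 1 : ↥(p.fiber (p w)) → ℤ) - d • S.fibSeq t (p w) m =
      a - d • (S.fibSeq t (p w) m - (Pi.single (Φ.xi m) 1 : ↥(p.fiber (p w)) → ℤ)) by rw [smul_sub]; abel]
    exact sub_mem ha (AddSubgroup.zsmul_mem _ h2 d)
  obtain ⟨ι, _, ξ, g, k1, k2, k3⟩ := exists_sum_of_mem_divSpan hd h3
  choose g' hg' using fun i => (bijective_residueFieldMap (p.fiberι (p w)) (ξ i)).2 (g i)
  refine ⟨d, ι, inferInstance, fun i => p.fiberι (p w) (ξ i), g', fun i => apply_fiberι _ _, fun i => ?_,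
    fun i hi => k2 i (by rw [← hg', hi, map_zero]), fun v hv => ?_⟩
  · have := k1 i
    simp only [fibDelta] at this
    show δP (p.fiberι (p w) (ξ i)) = _
    omega
  obtain ⟨y, rfl⟩ := exists_fiberι hv
  have e1 : (Pi.single w 1 : P → ℤ) (p.fiberι (p w) y) = (Pi.single z 1 : ↥(p.fiber (p w)) → ℤ) y := by
    by_cases hyz : y = z
    · subst hyz; rw [hz, Pi.single_eq_same, Pi.single_eq_same]
    · rw [Pi.single_eq_of_ne hyz, Pi.single_eq_of_ne fun e =>
        hyz ((p.fiberι (p w)).isEmbedding.injective (e.trans hz.symm))]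
  rw [e1, S.gfun_fiberι]
  refine Eq.trans (Finset.sum_congr rfl fun i _ => ?_) (k3 y).symm
  have hdP : Cyc.IsDimFun (p.fiber (p w)) fun v => δP (p.fiberι (p w) v) := fun a b hab hne => by
    obtain ⟨u1, u2⟩ := hd a b hab hne
    simp only [fibDelta] at u1 u2
    exact ⟨by show δP (p.fiberι (p w) b) < δP (p.fiberι (p w) a); omega,
      fun hh => by have := u2 hh; show δP (p.fiberι (p w) a) = δP (p.fiberι (p w) b) + 1; omega⟩
  rw [← hg' i, ← divFun_map (p.fiberι (p w)) S.hP.2.2 hdP (ξ i) y (g' i)]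
  exact congrFun ((congrArg (fun e => Cyc.divFun e (ξ i) (p.fiberι (p w) |>.residueFieldMap (ξ i) (g' i)))
    (funext fun v => by simp [fibDelta, sub_eq_add_neg])).trans (AffBundle.divFun_shift (fun v => δP (p.fiberι (p w) v)) (-δ (p w)) _ _)).symm y

open scoped Classical in
/-- One step of surjectivity in the projective bundle formula. -/
theorem surjective_step (t : ℕ → (ξ : P) → Cyc.secFibre O1 ξ) (ht : ∀ i ξ, t i ξ ≠ 0) (k : ℤ) {m : ℕ} (hm : m ≤ n)
    (β : AlgebraicCycle P ℤ) (hβ : β ∈ Cyc.Zk P δP (k + n)) (hsupp : ∀ w, β w ≠ 0 → δ (p w) ≤ k + m) :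
    ∃ α : AlgebraicCycle X ℤ, α ∈ Cyc.Zk X δ (k + m) ∧ ∃ β' : AlgebraicCycle P ℤ, β' ∈ Cyc.Zk P δP (k + n) ∧
      (∀ w, β' w ≠ 0 → δ (p w) < k + m) ∧ Cyc.RatEquivZero δP (k + n) (β - S.seq t α m - β') := by
  haveI := S.proper
  choose! d ι fι ξ g k1 k2 k3 k4 using fun (w : {w : P // β w ≠ 0 ∧ δ (p w) = k + m}) =>
    S.exists_point_data t ht k hm w.1 (by_contra fun h => w.2.1 (hβ _ h)) w.2.2
  let W := {w : P // β w ≠ 0 ∧ δ (p w) = k + m}
  have hW : ∀ U : X.Opens, IsAffineOpen U → {w : W | p w.1 ∈ U}.Finite := fun U hU =>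
    ((β.locallyFiniteSupport.finite_inter_support_of_isCompact (p.isCompact_preimage hU.isCompact)).preimage
      (f := fun w : W => w.1) Subtype.val_injective.injOn).subset fun w hw => ⟨hw, w.2.1⟩
  let F : Fam δP (k + n) :=
    { ι := Σ w : W, ULift.{u} (ι w)
      ξ := fun q => ξ q.1 q.2.down
      f := fun q => g q.1 q.2.down ^ β q.1.1
      hξ := fun q => k2 q.1 q.2.down
      hf := fun q => zpow_ne_zero _ (k3 q.1 q.2.down)
      fin := fun y => by
        obtain ⟨U, hU, hyU⟩ := exists_affine (p y)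
        letI := fun w => fι w
        refine ⟨_, (p ⁻¹ᵁ U).2, hyU, ((hW U hU).toFinset.sigma fun w => Finset.univ).finite_toSet.subset
          fun q ⟨v, hv, hvU⟩ => ?_⟩
        have hq : p (ξ q.1 q.2.down) ∈ U := (specializes_iff_mem_closure.2 hv).mem_open (p ⁻¹ᵁ U).2 hvU
        rw [k1] at hq
        simpa using hq }
  let a : X → ℤ := fun x => ∑ᶠ w : W, if p w.1 = x then β w.1 * d w else 0
  have ha : ∀ x, a x ≠ 0 → ∃ w : W, p w.1 = x := fun x hx => by
    obtain ⟨w, hw⟩ := exists_ne_zero_finsum hx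
    exact ⟨w, by_contra fun h => hw (if_neg h)⟩
  let α : AlgebraicCycle X ℤ :=
    { toFun := a
      supportWithinDomain' := Set.subset_univ _
      supportLocallyFiniteWithinDomain' := fun x _ => by
        obtain ⟨U, hU, hxU⟩ := exists_affine x
        refine ⟨U, U.2.mem_nhds hxU, ((hW U hU).image fun w : W => p w.1).subset fun x' ⟨hx', ha'⟩ => ?_⟩
        obtain ⟨w, rfl⟩ := ha x' ha'
        exact ⟨w, hx', rfl⟩ }
  have hα : α ∈ Cyc.Zk X δ (k + m) := fun x hx => by_contra fun h => by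
    obtain ⟨w, rfl⟩ := ha x h
    exact hx w.2.2
  refine ⟨α, hα, β - S.seq t α m - F.cycle S.hP.2.2, fun w hw => ?_, fun v hv => ?_, ?_⟩
  · show β w - S.seq t α m w - F.cycle S.hP.2.2 w = 0
    have h0 := S.seq_mem_Zk t hα m
    rw [hβ w hw, h0 w (by omega), show F.cycle S.hP.2.2 w = 0 from finsum_eq_zero_of_forall_eq_zero fun q => ?_]
    · rfl
    · by_contra h
      have h' := (specializes_of_divFun_ne_zero h).2
      rw [F.hξ q] at h'
      omega
  swap
  · rw [sub_sub_cancel]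
    exact F.ratEquivZero S.hP.2.2
  by_contra hge
  refine hv ?_
  show β v - S.seq t α m v - F.cycle S.hP.2.2 v = 0
  have hdiv : ∀ q : F.ι, Cyc.divFun δP (F.ξ q) (F.f q) v ≠ 0 → δ (p v) = k + m ∧ p q.1.1 = p v := fun q hq => by
    have hs := (specializes_of_divFun_ne_zero hq).1.map p.continuous
    rw [show p (F.ξ q) = p q.1.1 from k1 q.1 q.2.down] at hs
    obtain ⟨e1, e2⟩ := S.eq_of_delta q.1.2.2 hs
    exact ⟨by omega, (e2 (by omega)).symm⟩
  by_cases hx : δ (p v) = k + m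
  swap
  · have h1 : β v = 0 := by_contra fun h => hx (by have := hsupp v h; omega)
    have h2 : S.seq t α m v = 0 := by_contra fun h => by
      obtain ⟨-, x₀, -, hx₀, hs₀⟩ := S.seq_support t hα m v h
      have := (S.eq_of_delta hx₀ hs₀).1
      omega
    rw [h1, h2, show F.cycle S.hP.2.2 v = 0 from finsum_eq_zero_of_forall_eq_zero fun q =>
      by_contra fun h => hx (hdiv q h).1]
    rfl
  obtain ⟨U, hU, hvU⟩ := exists_affine (p v)
  letI := fun w => fι w
  let s : Finset W := (hW U hU).toFinset.filter fun w => p w.1 = p v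
  have hs : ∀ w : W, p w.1 = p v → w ∈ s := fun w hw => by simp [s, hw, hvU]
  have hpow : ∀ q : F.ι, Cyc.divFun δP (F.ξ q) (F.f q) v =
      β q.1.1 * Cyc.divFun δP (ξ q.1 q.2.down) (g q.1 q.2.down) v := fun q => by
    show Cyc.divFun δP (ξ q.1 q.2.down) (g q.1 q.2.down ^ β q.1.1) v = _
    by_cases h : ξ q.1 q.2.down ⤳ v ∧ δP v + 1 = δP (ξ q.1 q.2.down)
    · rw [divFun_of h.1 h.2, divFun_of h.1 h.2, ordAt_zpow S.hP.2.2 h.1 h.2 (k3 q.1 q.2.down)]
    · rw [Cyc.divFun, Cyc.divFun, dif_neg h, dif_neg h, mul_zero]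
  have hF : F.cycle S.hP.2.2 v = ∑ w ∈ s, β w.1 * ((Pi.single w.1 1 : P → ℤ) v - d w * S.gfun t m v) := by
    show (∑ᶠ q : F.ι, Cyc.divFun δP (F.ξ q) (F.f q) v) = _
    rw [finsum_eq_sum_of_support_subset (α := F.ι) _ (s := s.sigma fun w => Finset.univ) fun q hq =>
      Finset.mem_coe.2 (Finset.mem_sigma.2 ⟨hs _ (hdiv q hq).2, Finset.mem_univ _⟩), Finset.sum_sigma]
    refine Finset.sum_congr rfl fun w hw => ?_
    rw [← k4 w v (Finset.mem_filter.1 hw).2.symm, Finset.mul_sum]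
    exact (Finset.sum_congr rfl fun q _ => hpow ⟨w, q⟩).trans (Fintype.sum_equiv Equiv.ulift _ _ fun i => rfl)
  have hαv : α (p v) = ∑ w ∈ s, β w.1 * d w := by
    show (∑ᶠ w : W, if p w.1 = p v then β w.1 * d w else 0) = _
    rw [finsum_eq_sum_of_support_subset _ (s := s) fun w hw => hs w (by_contra fun h => hw (if_neg h))]
    exact Finset.sum_congr rfl fun w hw => if_pos (Finset.mem_filter.1 hw).2
  have hβv : β v = ∑ w ∈ s, β w.1 * (Pi.single w.1 1 : P → ℤ) v := by
    by_cases hv0 : β v = 0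
    · rw [hv0, Finset.sum_eq_zero fun w _ => ?_]
      rw [Pi.single_eq_of_ne (fun e => w.2.1 ((congrArg β e.symm).trans hv0)), mul_zero]
    · rw [Finset.sum_eq_single (⟨v, hv0, hx⟩ : W) (fun w _ hw => by
        rw [Pi.single_eq_of_ne (fun e => hw (Subtype.ext e.symm)), mul_zero])
        (fun h => absurd (hs _ rfl) h), Pi.single_eq_same, mul_one]
  rw [hF, S.seq_gfun t hα m v hx, hαv, hβv, Finset.sum_mul, ← Finset.sum_sub_distrib, ← Finset.sum_sub_distrib]
  exact Finset.sum_eq_zero fun w _ => by ring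

/-- Surjectivity in the projective bundle formula. -/
theorem surjective (t : Fin (n + 1) → ℕ → (ξ : P) → Cyc.secFibre O1 ξ) (ht : ∀ i m ξ, t i m ξ ≠ 0) (k : ℤ) :
    ∀ m, m ≤ n + 1 → ∀ β : AlgebraicCycle P ℤ, β ∈ Cyc.Zk P δP (k + n) → (∀ w, β w ≠ 0 → δ (p w) < k + m) →
      ∃ α : Fin (n + 1) → AlgebraicCycle X ℤ, (∀ i : Fin (n + 1), α i ∈ Cyc.Zk X δ (k + ((i : ℕ) : ℤ))) ∧
        (∀ i : Fin (n + 1), m ≤ i → α i = 0) ∧
        Cyc.RatEquivZero δP (k + n) (β - ∑ i : Fin (n + 1), S.seq (t i) (α i) (i : ℕ))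
  | 0, _, β, hβ, hs => by
    have h : β = 0 := by
      ext w
      by_contra hw
      have h1 := hs w hw
      have h2 : δP w = k + n := by_contra fun e => hw (hβ w e)
      have := (S.delta_le w).2
      omega
    refine ⟨fun _ => 0, fun i x _ => rfl, fun _ _ => rfl, ?_⟩
    have hz : ∀ i : Fin (n + 1), S.seq (t i) 0 (i : ℕ) = 0 := fun i => map_zero (S.seqHom (t i) i)
    simp only [hz, h, Finset.sum_const_zero, sub_zero]
    exact ratEquivZero_zero
  | m + 1, hm, β, hβ, hs => by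
    classical
    obtain ⟨α₀, hα₀, β', hβ', hs', h0⟩ := S.surjective_step (t ⟨m, by omega⟩) (ht _) k (show m ≤ n by omega) β hβ
      fun w hw => by have := hs w hw; omega
    obtain ⟨α, hα, hαz, h1⟩ := surjective t ht k m (by omega) β' hβ' hs'
    let i₀ : Fin (n + 1) := ⟨m, by omega⟩
    refine ⟨Function.update α i₀ α₀, fun i => ?_, fun i hi => ?_, ?_⟩
    · by_cases e : i = i₀
      · subst e; rw [Function.update_self]; exact hα₀
      · rw [Function.update_of_ne e]; exact hα i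
    · rw [Function.update_of_ne (fun e => by subst e; simp [i₀] at hi)]
      exact hαz i (by omega)
    · have hsum : ∑ i : Fin (n + 1), S.seq (t i) (Function.update α i₀ α₀ i) (i : ℕ) =
          S.seq (t i₀) α₀ m + ∑ i : Fin (n + 1), S.seq (t i) (α i) (i : ℕ) := by
        rw [← Finset.add_sum_erase _ _ (Finset.mem_univ i₀), Function.update_self,
          ← Finset.add_sum_erase _ (fun i => S.seq (t i) (α i) (i : ℕ)) (Finset.mem_univ i₀),
          show S.seq (t i₀) (α i₀) (i₀ : ℕ) = 0 by rw [hαz i₀ le_rfl]; exact map_zero (S.seqHom (t i₀) m), zero_add]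
        congr 1
        refine Finset.sum_congr rfl fun i hi => ?_
        rw [Function.update_of_ne (Finset.ne_of_mem_erase hi)]
      rw [hsum]
      have := ratEquivZero_add h0 h1
      convert this using 1
      abel

end Setting

end Groth.Agent.CycLib.PB
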