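import Groth.Agent.CycLib.Closed
import Groth.Agent.CycLib.Immersion

/-! # Divisors of sections restrict along preimmersions -/

set_option autoImplicit false
set_option backward.isDefEq.respectTransparency false
set_option linter.style.haveILetI false

universe u

open CategoryTheory AlgebraicGeometry TopologicalSpace

noncomputable section

namespace Groth.Agent.CycLib.PB

variable {X Z : Scheme.{u}} (i : Z ⟶ X) [IsPreimmersion i] [IsLocallyNoetherian X] [IsLocallyNoetherian Z]
  {δ : X → ℤ} {δZ : Z → ℤ} {c : ℤ} (hδ : Cyc.IsDimFun X δ) (hδZ : Cyc.IsDimFun Z δZ)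
  (hc : ∀ z, δ (i z) = δZ z + c) {L : X.Modules} (hL : PicF.IsInvertible L)

include hδ hδZ hc hL

theorem secDivFun_preimm (η z : Z) (s : Cyc.secFibre L (i η)) :
    Cyc.secDivFun δ L (i η) s (i z) =
      Cyc.secDivFun δZ ((Scheme.Modules.pullback i).obj L) η (pullFib i L η s) z := by
  haveI := InvExt.isQCoh_of_isInvertible hL
  by_cases h : η ⤳ z ∧ δZ z + 1 = δZ η
  · obtain ⟨hs, hd'⟩ := h
    have hd : δ (i z) + 1 = δ (i η) := by rw [hc, hc]; omega
    have h' := hs.map i.continuous
    obtain ⟨t, ht⟩ := exists_genAt hL (i z)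
    have htx : Function.Bijective fun r : X.presheaf.stalk (i z) => r • t := by
      have := ht (i z) specializes_rfl
      rwa [TopCat.Presheaf.stalkSpecializes_refl] at this
    obtain ⟨φ, rfl⟩ := exists_smul_mkF (ht (i η) h') s
    rw [secDivFun_of h' hd, secDivFun_of (δ := δZ) hs hd', secOrdAt_eq hδ h' hd htx (ht (i η) h'),
      pullFib_smul_mkF, ← stalkSpecializes_pullStalk i L hs,
      secOrdAt_eq hδZ hs hd' (ProjBundleLib.bijective_pullStalk_gen i z htx)
        (by rw [stalkSpecializes_pullStalk i L hs]; exact ProjBundleLib.bijective_pullStalk_gen i η (ht (i η) h')),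
      ← residueFieldMap_residue i η φ, ordAt_map i hδ hδZ hs h' hd' hd]
  · rw [Cyc.secDivFun, Cyc.secDivFun, dif_neg h, dif_neg fun h' => h
      ⟨i.isEmbedding.isInducing.specializes_iff.1 h'.1, by have := h'.2; rw [hc, hc] at this; omega⟩]

theorem c1CapFun_preimm (a : X → ℤ) (v : (ξ : X) → Cyc.secFibre L ξ) (z : Z)
    (ha : ∀ ξ, a ξ ≠ 0 → ξ ⤳ i z → ξ ∈ Set.range i) :
    Cyc.c1CapFun δ L a v (i z) =
      Cyc.c1CapFun δZ ((Scheme.Modules.pullback i).obj L) (fun η => a (i η))
        (fun η => pullFib i L η (v (i η))) z := by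
  classical
  show ∑ᶠ ξ : X, a ξ * Cyc.secDivFun δ L ξ (v ξ) (i z) = ∑ᶠ η : Z, _
  have hsub : Function.support (fun ξ : X => a ξ * Cyc.secDivFun δ L ξ (v ξ) (i z)) ⊆ Set.range i :=
    fun ξ hξ => ha ξ (left_ne_zero_of_mul hξ) (specializes_of_secDivFun_ne_zero (right_ne_zero_of_mul hξ)).1
  rw [← finsum_mem_univ, ← finsum_mem_inter_support, Set.univ_inter, ← Set.inter_eq_right.2 hsub,
    finsum_mem_inter_support, finsum_mem_range i.isEmbedding.injective]
  exact finsum_congr fun η => congrArg _ (secDivFun_preimm i hδ hδZ hc hL η z (v (i η)))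

end Groth.Agent.CycLib.PB
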