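import Groth.Agent.CycLib.PB.Setting

/-! # Iterated first Chern class caps on a projective bundle -/

set_option autoImplicit false
set_option backward.isDefEq.respectTransparency false
set_option linter.style.haveILetI false

universe u

open CategoryTheory CategoryTheory.Limits AlgebraicGeometry TopologicalSpace

noncomputable section

namespace Groth.Agent.CycLib.PB

open AffBundle (fibDelta)

section CapSeq

variable {Z : Scheme.{u}} [IsLocallyNoetherian Z] {δ : Z → ℤ} {L : Z.Modules}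
  (hδ : Cyc.IsDimFun Z δ) (hL : PicF.IsInvertible L)

/-- Iterated caps with prescribed rational sections. -/
def capSeq (t : ℕ → (ξ : Z) → Cyc.secFibre L ξ) (c : AlgebraicCycle Z ℤ) : ℕ → AlgebraicCycle Z ℤ
  | 0 => c
  | m + 1 => c1Cycle hδ hL (capSeq t c m) (t m)

theorem capSeq_succ (t : ℕ → (ξ : Z) → Cyc.secFibre L ξ) (c : AlgebraicCycle Z ℤ) (m : ℕ) :
    ⇑(capSeq hδ hL t c (m + 1)) = Cyc.c1CapFun δ L ⇑(capSeq hδ hL t c m) (t m) := rfl

/-- A sequence with the recursion is the sequence of iterated caps. -/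
theorem eq_capSeq (t : ℕ → (ξ : Z) → Cyc.secFibre L ξ) (c : AlgebraicCycle Z ℤ) (γ : ℕ → Z → ℤ) (h0 : γ 0 = ⇑c)
    (hs : ∀ m, γ (m + 1) = Cyc.c1CapFun δ L (γ m) (t m)) : ∀ m, γ m = ⇑(capSeq hδ hL t c m)
  | 0 => h0
  | m + 1 => by rw [hs, eq_capSeq t c γ h0 hs m, capSeq_succ]

theorem c1Cycle_add (a b : AlgebraicCycle Z ℤ) (s : (ξ : Z) → Cyc.secFibre L ξ) :
    c1Cycle hδ hL (a + b) s = c1Cycle hδ hL a s + c1Cycle hδ hL b s := by
  ext x
  show (∑ᶠ ξ : Z, (a ξ + b ξ) * Cyc.secDivFun δ L ξ (s ξ) x) = (∑ᶠ ξ : Z, a ξ * _) + ∑ᶠ ξ : Z, b ξ * _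
  rw [← finsum_add_distrib (finite_support_c1 a s x) (finite_support_c1 b s x)]
  exact finsum_congr fun ξ => add_mul _ _ _

theorem capSeq_add (t : ℕ → (ξ : Z) → Cyc.secFibre L ξ) (a b : AlgebraicCycle Z ℤ) :
    ∀ m, capSeq hδ hL t (a + b) m = capSeq hδ hL t a m + capSeq hδ hL t b m
  | 0 => rfl
  | m + 1 => by
    show c1Cycle hδ hL (capSeq hδ hL t (a + b) m) (t m) = _
    rw [capSeq_add t a b m, c1Cycle_add]
    rfl

/-- Iterated caps are additive. -/
def capHom (t : ℕ → (ξ : Z) → Cyc.secFibre L ξ) (m : ℕ) : AlgebraicCycle Z ℤ →+ AlgebraicCycle Z ℤ :=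
  AddMonoidHom.mk' (fun c => capSeq hδ hL t c m) fun a b => capSeq_add hδ hL t a b m

theorem capSeq_congr {t t' : ℕ → (ξ : Z) → Cyc.secFibre L ξ} (c : AlgebraicCycle Z ℤ) :
    ∀ m, (∀ l < m, t l = t' l) → capSeq hδ hL t c m = capSeq hδ hL t' c m
  | 0, _ => rfl
  | m + 1, h => by
    show c1Cycle hδ hL _ (t m) = c1Cycle hδ hL _ (t' m)
    rw [capSeq_congr c m fun l hl => h l (by omega), h m (by omega)]

theorem capSeq_capSeq (t u : ℕ → (ξ : Z) → Cyc.secFibre L ξ) (c : AlgebraicCycle Z ℤ) (i : ℕ) :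
    ∀ m, capSeq hδ hL u (capSeq hδ hL t c i) m =
      capSeq hδ hL (fun l => if l < i then t l else u (l - i)) c (i + m)
  | 0 => capSeq_congr hδ hL c i fun l hl => (if_pos hl).symm
  | m + 1 => by
    show c1Cycle hδ hL _ (u m) = c1Cycle hδ hL (capSeq hδ hL _ c (i + m)) _
    rw [capSeq_capSeq t u c i m]
    congr 1
    show u m = if i + m < i then _ else _
    rw [if_neg (by omega)]
    exact congrArg u (Nat.add_sub_cancel_left i m).symm

theorem capSeq_ratEquivZero (hZ : Cyc.IsSetup Z δ) (t : ℕ → (ξ : Z) → Cyc.secFibre L ξ) (ht : ∀ i ξ, t i ξ ≠ 0)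
    {j : ℤ} {c : AlgebraicCycle Z ℤ} (h : Cyc.RatEquivZero δ j c) :
    ∀ m : ℕ, Cyc.RatEquivZero δ (j - m) (capSeq hδ hL t c m)
  | 0 => by simpa [capSeq] using h
  | m + 1 => c1Cap_ratEquivZero hZ hL (k := j - (m + 1 : ℕ))
      (by rw [show j - ((m + 1 : ℕ) : ℤ) + 1 = j - m by push_cast; ring]; exact capSeq_ratEquivZero hZ t ht h m)
      (t m) (ht m) _ rfl

end CapSeq

variable {X P : Scheme.{u}} {p : P ⟶ X}

namespace Setting

variable {O1 : P.Modules} {δP : P → ℤ} {δ : X → ℤ} {n : ℕ} (S : Setting p O1 δP δ n)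
  [IsLocallyNoetherian P] [IsLocallyNoetherian X]

/-- The pull back of a cycle. -/
def pullC (S : Setting p O1 δP δ n) (α : AlgebraicCycle X ℤ) : AlgebraicCycle P ℤ :=
  haveI := S.lft
  pullCycle S.isShift S.hP.2.2 α

theorem coe_pullC (α : AlgebraicCycle X ℤ) : ⇑(S.pullC α) = Cyc.pullFun p δP δ n ⇑α := rfl

/-- Iterated caps on pull backs. -/
def seq (S : Setting p O1 δP δ n) (t : ℕ → (ξ : P) → Cyc.secFibre O1 ξ) (α : AlgebraicCycle X ℤ) (m : ℕ) :
    AlgebraicCycle P ℤ :=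
  capSeq S.hP.2.2 S.inv t (S.pullC α) m

theorem seq_support (t : ℕ → (ξ : P) → Cyc.secFibre O1 ξ) {j : ℤ} {α : AlgebraicCycle X ℤ}
    (hα : α ∈ Cyc.Zk X δ j) :
    ∀ (m : ℕ) (w : P), S.seq t α m w ≠ 0 → δP w = j + n - m ∧ ∃ x, α x ≠ 0 ∧ δ x = j ∧ x ⤳ p w
  | 0, w, hw => by
    change Cyc.pullFun p δP δ n (⇑α) w ≠ 0 at hw
    rw [S.pullFun_eq] at hw
    split_ifs at hw with h
    · have hd : δ (p w) = j := by_contra fun e => hw (hα _ e)
      exact ⟨by push_cast; omega, p w, hw, hd, specializes_rfl⟩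
    · exact absurd rfl hw
  | m + 1, w, hw => by
    change (∑ᶠ ξ : P, S.seq t α m ξ * Cyc.secDivFun δP O1 ξ (t m ξ) w) ≠ 0 at hw
    obtain ⟨ξ, hξ⟩ := exists_ne_zero_finsum hw
    obtain ⟨h1, x, hx, hxj, hxs⟩ := seq_support t hα m ξ (left_ne_zero_of_mul hξ)
    obtain ⟨hs, hd⟩ := specializes_of_secDivFun_ne_zero (right_ne_zero_of_mul hξ)
    exact ⟨by push_cast; omega, x, hx, hxj, hxs.trans (hs.map p.continuous)⟩

include S in
theorem eq_of_delta {j : ℤ} {x₀ x : X} (h₀ : δ x₀ = j) (hs : x₀ ⤳ x) : δ x ≤ j ∧ (δ x = j → x = x₀) := by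
  rcases eq_or_ne x₀ x with rfl | hne
  · exact ⟨h₀.le, fun _ => rfl⟩
  · have := (S.hX.2.2 _ _ hs hne).1
    exact ⟨by omega, fun h => absurd h (by omega)⟩

open scoped Classical in
/-- The fundamental class of a fibre with its iterated caps. -/
def fibSeq (S : Setting p O1 δP δ n) (t : ℕ → (ξ : P) → Cyc.secFibre O1 ξ) (x : X) : ℕ → ↥(p.fiber x) → ℤ
  | 0 => Pi.single ((S.fib x).some.xi 0) 1
  | m + 1 => Cyc.c1CapFun (fibDelta p δP δ x) ((Scheme.Modules.pullback (p.fiberι x)).obj O1) (fibSeq S t x m)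
      fun z => pullFib (p.fiberι x) O1 z (t m (p.fiberι x z))

omit [IsLocallyNoetherian P] [IsLocallyNoetherian X] in
include S in
theorem qc_fib (x : X) : QuasiCompact (p.fiberToSpecResidueField x) :=
  haveI := S.proper_fib x
  inferInstance

/-- The restriction of iterated caps to a fibre over a point of maximal dimension. -/
theorem seq_fiber (t : ℕ → (ξ : P) → Cyc.secFibre O1 ξ) {j : ℤ} {α : AlgebraicCycle X ℤ} (hα : α ∈ Cyc.Zk X δ j)
    {x : X} (hx : δ x = j) : ∀ (m : ℕ) (z : ↥(p.fiber x)),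
      S.seq t α m (p.fiberι x z) = α x * S.fibSeq t x m z
  | 0, z => by
    classical
    haveI := S.lft_fib x
    show Cyc.pullFun p δP δ n (⇑α) (p.fiberι x z) = _
    rw [S.pullFun_eq, apply_fiberι, fibSeq]
    let Φ := (S.fib x).some
    by_cases hz : z = Φ.xi 0
    · subst hz
      have h := Φ.delta_xi (S.compat_fib x) (Nat.zero_le n)
      simp only [fibDelta] at h
      rw [Pi.single_eq_same, if_pos (by push_cast at h ⊢; omega), mul_one]
    · rw [Pi.single_eq_of_ne hz, mul_zero, if_neg]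
      intro h
      refine hz ((Φ.delta_le_of_mem_C (S.compat_fib x) (Nat.zero_le n) (z := z) (by rw [Φ.C_zero]; trivial)).2 ?_)
      simp only [fibDelta]
      push_cast
      omega
  | m + 1, z => by
    haveI := S.noeth_fib x
    haveI := S.lft_fib x
    obtain ⟨Φ⟩ := S.fib x
    have hd : Cyc.IsDimFun (p.fiber x) (fibDelta p δP δ x) := (Φ.isSetup (S.compat_fib x)).2.2
    show Cyc.c1CapFun δP O1 ⇑(S.seq t α m) (t m) (p.fiberι x z) = _
    rw [c1CapFun_preimm (p.fiberι x) (δZ := fibDelta p δP δ x) (c := δ x) S.hP.2.2 hd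
      (fun v => by simp [fibDelta]) S.inv _ _ z fun ξ hξ hs => ?_]
    · show (∑ᶠ η, S.seq t α m (p.fiberι x η) * _) = α x * ∑ᶠ η, _
      rw [← smul_eq_mul, smul_finsum]
      exact finsum_congr fun η => by rw [seq_fiber t hα hx m η, mul_assoc, smul_eq_mul]
    · obtain ⟨-, x₀, -, hx₀, hs₀⟩ := S.seq_support t hα m ξ hξ
      have h1 : p ξ ⤳ x := by simpa [apply_fiberι] using hs.map p.continuous
      have h2 := (S.eq_of_delta hx₀ (hs₀.trans h1)).2 hx
      subst h2
      exact exists_fiberι (hs₀.antisymm h1).eq.symm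

/-- The class of the iterated caps in a fibre. -/
theorem fibSeq_class (t : ℕ → (ξ : P) → Cyc.secFibre O1 ξ) (ht : ∀ i ξ, t i ξ ≠ 0) (x : X) {m : ℕ} (hm : m ≤ n) :
    (Function.support (S.fibSeq t x m)).Finite ∧ (∀ z, fibDelta p δP δ x z ≠ (n : ℤ) - m → S.fibSeq t x m z = 0) ∧
      S.fibSeq t x m - (open scoped Classical in (Pi.single ((S.fib x).some.xi m) 1 : ↥(p.fiber x) → ℤ)) ∈
        divSpan (fibDelta p δP δ x) ((n : ℤ) - m) :=
  haveI := S.lft_fib x
  haveI := S.qc_fib x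
  (S.fib x).some.iterate_c1 (S.compat_fib x) (S.inv_fib x)
    (fun i z => pullFib (p.fiberι x) O1 z (t i (p.fiberι x z)))
    (fun i z => pullFib_ne_zero _ _ S.inv (ht i _)) _ rfl (fun _ => rfl) m hm

theorem deg_fibSeq (t : ℕ → (ξ : P) → Cyc.secFibre O1 ξ) (ht : ∀ i ξ, t i ξ ≠ 0) (x : X) :
    PFib.deg (p.fiberToSpecResidueField x) (fibDelta p δP δ x) (S.fibSeq t x n) = 1 := by
  classical
  haveI := S.lft_fib x
  haveI := S.qc_fib x
  haveI := S.proper_fib x
  let Φ := (S.fib x).some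
  obtain ⟨hfin, -, h⟩ := S.fibSeq_class t ht x le_rfl
  rw [sub_self] at h
  have h1 := Φ.deg_divSpan (S.compat_fib x) h
  have h2 := Φ.deg_single_xi (S.compat_fib x)
  have hs := Φ.finite_support_single (S.compat_fib x) (Φ.xi n)
  unfold PFib.deg at h1 h2 ⊢
  simp only [Pi.sub_apply, sub_mul] at h1
  rw [finsum_sub_distrib (hfin.subset fun z hz => left_ne_zero_of_mul hz) (hs.subset fun z hz => left_ne_zero_of_mul hz)] at h1
  exact (sub_eq_zero.1 h1).trans h2

/-- Push forward as a homomorphism. -/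
def mapHom (S : Setting p O1 δP δ n) : AlgebraicCycle P ℤ →+ AlgebraicCycle X ℤ :=
  haveI := S.proper
  AddMonoidHom.ofMapSub (fun c => AlgebraicCycle.map p δP δ c) fun a b => by
    ext y
    exact map_sub_apply p a b y

theorem mapHom_seq_of_lt [IsProper p] (t : ℕ → (ξ : P) → Cyc.secFibre O1 ξ) {j : ℤ} {α : AlgebraicCycle X ℤ}
    (hα : α ∈ Cyc.Zk X δ j) {s : ℕ} (hs : s < n) : AlgebraicCycle.map p δP δ (S.seq t α s) = 0 := by
  ext x
  show AlgebraicCycle.map p δP δ (S.seq t α s) x = 0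
  classical
  obtain hfin := finite_window p (S.seq t α s) x
  rw [map_apply_eq_sum p _ x hfin.toFinset fun w hw hw' => hfin.mem_toFinset.2 ⟨hw, hw'⟩]
  refine Finset.sum_eq_zero fun w hw => ?_
  rw [hfin.mem_toFinset] at hw
  obtain ⟨hd, x₀, -, hx₀, hs₀⟩ := S.seq_support t hα s w hw.2
  rw [Set.indicator_of_mem (show w ∈ p ⁻¹' {x} from hw.1), AlgebraicCycle.mapCoeff, if_neg, Nat.cast_zero, mul_zero]
  intro e
  have := (S.eq_of_delta hx₀ hs₀).1
  omega

omit [IsLocallyNoetherian P] [IsLocallyNoetherian X] in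
include S in
theorem mapCoeff_fiber (x : X) (z : ↥(p.fiber x)) :
    AlgebraicCycle.mapCoeff p δP δ (p.fiberι x z) =
      AlgebraicCycle.mapCoeff (p.fiberToSpecResidueField x) (fibDelta p δP δ x) (fun _ => (0 : ℤ)) z := by
  have h := WeilCohLib.residueDegree_congr
    (f := p.fiberι x ≫ p) (g := p.fiberToSpecResidueField x ≫ X.fromSpecResidueField x) pullback.condition z
  rw [WeilCohLib.residueDegree_comp', WeilCohLib.residueDegree_comp',
    WeilCohLib.residueDegree_eq_one_of_surjective (p.fiberι x) z (bijective_residueFieldMap _ z).2,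
    WeilCohLib.residueDegree_eq_one_of_surjective (X.fromSpecResidueField x) _ (bijective_residueFieldMap _ _).2,
    mul_one, one_mul] at h
  have e : δP (p.fiberι x z) = δ (p (p.fiberι x z)) ↔ fibDelta p δP δ x z = 0 := by
    rw [apply_fiberι, fibDelta]; omega
  unfold AlgebraicCycle.mapCoeff
  by_cases hz : fibDelta p δP δ x z = 0
  · rw [if_pos hz, if_pos (e.2 hz), h]
  · rw [if_neg hz, if_neg fun hh => hz (e.1 hh)]

theorem mapHom_seq_self [IsProper p] (t : ℕ → (ξ : P) → Cyc.secFibre O1 ξ) (ht : ∀ i ξ, t i ξ ≠ 0) {j : ℤ}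
    {α : AlgebraicCycle X ℤ} (hα : α ∈ Cyc.Zk X δ j) : AlgebraicCycle.map p δP δ (S.seq t α n) = α := by
  classical
  ext x
  show AlgebraicCycle.map p δP δ (S.seq t α n) x = α x
  by_cases hx : δ x = j
  swap
  · obtain hfin := finite_window p (S.seq t α n) x
    rw [map_apply_eq_sum p _ x hfin.toFinset fun w hw hw' => hfin.mem_toFinset.2 ⟨hw, hw'⟩, hα x hx]
    refine Finset.sum_eq_zero fun w hw => ?_
    rw [hfin.mem_toFinset] at hw
    obtain ⟨hd, -⟩ := S.seq_support t hα n w hw.2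
    rw [Set.indicator_of_mem (show w ∈ p ⁻¹' {x} from hw.1), AlgebraicCycle.mapCoeff, if_neg, Nat.cast_zero, mul_zero]
    intro e
    rw [show p w = x from hw.1] at e
    exact hx (by omega)
  rw [AlgebraicCycle.map, Function.locallyFinsupp.map_apply, ← p.range_fiberι x,
    finsum_mem_range (p.fiberι x).isEmbedding.injective]
  refine Eq.trans (finsum_congr fun z => ?_) (Eq.trans (smul_finsum (α x)
    fun z => S.fibSeq t x n z *
      ((AlgebraicCycle.mapCoeff (p.fiberToSpecResidueField x) (fibDelta p δP δ x) (fun _ => (0 : ℤ)) z : ℕ) : ℤ)).symm ?_)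
  · rw [S.seq_fiber t hα hx n z, S.mapCoeff_fiber x z, smul_eq_mul, mul_assoc]
  · show α x * PFib.deg _ _ _ = α x
    rw [S.deg_fibSeq t ht x, mul_one]

end Setting

end Groth.Agent.CycLib.PB
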