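import Groth.Agent.CycLib.PB.Fibre
import Groth.Agent.CycLib.PB.Restrict

/-! # Projective bundles with their dimension functions -/

set_option autoImplicit false
set_option backward.isDefEq.respectTransparency false
set_option linter.style.haveILetI false

universe u

open CategoryTheory CategoryTheory.Limits AlgebraicGeometry TopologicalSpace

noncomputable section

namespace Groth.Agent.CycLib.PB

open AffBundle (polySpec Idx fibDelta)

/-- A proper flat morphism with fibres projective spaces and a fibrewise hyperplane bundle. -/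
structure Setting {X P : Scheme.{u}} (p : P ⟶ X) (O1 : P.Modules) (δP : P → ℤ) (δ : X → ℤ) (n : ℕ) : Prop where
  hX : Cyc.IsSetup X δ
  hP : Cyc.IsSetup P δP
  hδ : Cyc.DeltaCompat p δP δ
  inv : PicF.IsInvertible O1
  flat : Flat p
  proper : IsProper p
  fib : ∀ x : X, Nonempty (PFib (K := X.residueField x) (p.fiberToSpecResidueField x)
    ((Scheme.Modules.pullback (p.fiberι x)).obj O1) n)

variable {X P : Scheme.{u}} {p : P ⟶ X}

section Build

variable {E : X.Modules} {O1 : P.Modules} {φ : E ⟶ (Scheme.Modules.pushforward p).obj O1}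
  (D : ProjBundleLib.PData p E O1 φ) {n : ℕ}

include D in
theorem exists_basis (hE : FlatMod.IsFinLocFreeOfRank (n + 1) E) (x : X) :
    ∃ (U : X.Opens) (_ : IsAffineOpen U), x ∈ U ∧ Nonempty (Module.Basis (Fin (n + 1)) Γ(X, U) Γ(E, U)) := by
  obtain ⟨V, hV, hxV⟩ := exists_affine x
  obtain ⟨U, f, hxU, -, hf⟩ := DegDevLib.exists_frame hE (Set.finite_singleton x) hV (Set.singleton_subset_iff.2 hxV)
  obtain ⟨W, hW, hxW, hWU⟩ := exists_isAffineOpen_mem_and_subset (x := x) (U := U) (hxU rfl)
  exact ⟨W, hW, hxW, ⟨(hf.res hWU).basis⟩⟩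

include D in
theorem flat_of_pdata (hE : FlatMod.IsFinLocFreeOfRank (n + 1) E) : Flat p := by
  choose U hU hxU hb using fun w : P => exists_basis D hE (p w)
  have hc := fun w : P => cover_chartMap D (hU w) (hb w).some (hxU w)
  choose i hi using hc
  refine IsZariskiLocalAtSource.of_iSup_eq_top (P := @Flat)
    (fun w : P => D.DPl (hU w) ((hb w).some (i w))) ?_ fun w => ?_
  · exact eq_top_iff.2 fun w _ => Opens.mem_iSup.2 ⟨w, hi w⟩
  let b := (hb w).some
  have hV := D.isAffineOpen_DPl (hU w) (b (i w))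
  rw [← hV.isoSpec_hom_fromSpec, Category.assoc,
    ← IsAffineOpen.SpecMap_appLE_fromSpec p (hU w) hV (D.DPl_le (hU w) (b (i w)))]
  haveI : Flat (Spec.map (p.appLE (U w) (D.DPl (hU w) (b (i w))) (D.DPl_le (hU w) (b (i w))))) := by
    rw [HasRingHomProperty.Spec_iff (P := @Flat)]
    have h : (theta D (hU w) b (i w)).comp MvPolynomial.C = cst D (hU w) (b (i w)) :=
      RingHom.ext fun a => MvPolynomial.eval₂Hom_C _ _ _
    show RingHom.Flat (cst D (hU w) (b (i w)))
    rw [← h]
    exact RingHom.Flat.comp (RingHom.flat_algebraMap_iff.2 inferInstance :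
      RingHom.Flat (algebraMap Γ(X, U w) (MvPolynomial (Idx.{u} n) Γ(X, U w))))
      (RingHom.Flat.of_bijective (chartEquiv D (hU w) b (i w)).bijective)
  infer_instance

variable {δP : P → ℤ} {δ : X → ℤ}

include D in
theorem setting_of_pdata (hE : FlatMod.IsFinLocFreeOfRank (n + 1) E) (hX : Cyc.IsSetup X δ) (hP : Cyc.IsSetup P δP)
    (hδ : Cyc.DeltaCompat p δP δ) (hinv : PicF.IsInvertible O1) [IsProper p] : Setting p O1 δP δ n where
  hX := hX
  hP := hP
  hδ := hδ
  inv := hinv
  flat := flat_of_pdata D hE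
  proper := inferInstance
  fib x := by
    obtain ⟨U, hU, hxU, ⟨b⟩⟩ := exists_basis D hE x
    exact ⟨pfib hU hxU D b⟩

/-- The problem data give a setting. -/
theorem setting_of_relProj {E : X.Modules} (hq : Coh.IsQCoh E) (hE : FlatMod.IsFinLocFreeOfRank (n + 1) E)
    {𝒮 : RelProj.QCGrAlg X} {j : E ⟶ 𝒮.toModule} (hS : RelProj.IsGrSymAlg E 𝒮 j)
    {chart : ∀ (U : X.Opens) (hU : IsAffineOpen U), (((p ⁻¹ᵁ U : P.Opens) : Scheme.{u}) ≅ Proj (𝒮.deg U hU))}
    (hPr : RelProj.IsRelProj 𝒮 p chart) {O1 : P.Modules}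
    {lam : ∀ (U : X.Opens) (hU : IsAffineOpen U),
      O1 ⟶ (Scheme.Modules.pushforward (RelProj.emb p chart U hU)).obj (GrTwist.twist (𝒮.deg U hU) 1)}
    (hO1 : RelProj.IsRelTwist 𝒮 p chart 1 O1 lam) (hinv : PicF.IsInvertible O1) [IsProper p]
    (hX : Cyc.IsSetup X δ) (hP : Cyc.IsSetup P δP) (hδ : Cyc.DeltaCompat p δP δ) : Setting p O1 δP δ n := by
  obtain ⟨φ, ⟨D⟩⟩ := ProjBundleLib.exists_φ hq hS hPr hO1
  exact setting_of_pdata D hE hX hP hδ hinv

end Build

theorem exists_fiberι {x : X} {w : P} (h : p w = x) : ∃ z : ↥(p.fiber x), p.fiberι x z = w := by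
  have : w ∈ Set.range (p.fiberι x) := by rw [Scheme.Hom.range_fiberι]; exact h
  exact this

namespace Setting

variable {O1 : P.Modules} {δP : P → ℤ} {δ : X → ℤ} {n : ℕ} (S : Setting p O1 δP δ n)
include S

theorem lft : LocallyOfFiniteType p := haveI := S.proper; inferInstance

theorem lft_fib (x : X) : LocallyOfFiniteType (p.fiberToSpecResidueField x) :=
  haveI := S.lft
  MorphismProperty.pullback_snd _ _ inferInstance

theorem proper_fib (x : X) : IsProper (p.fiberToSpecResidueField x) :=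
  haveI := S.proper
  MorphismProperty.pullback_snd _ _ inferInstance

theorem noeth_fib (x : X) : IsLocallyNoetherian (p.fiber x) :=
  haveI := S.lft_fib x
  LocallyOfFiniteType.isLocallyNoetherian (p.fiberToSpecResidueField x)

theorem inv_fib (x : X) : PicF.IsInvertible ((Scheme.Modules.pullback (p.fiberι x)).obj O1) :=
  AmpleLib.isInvertible_pullback _ S.inv

theorem compat_fib (x : X) :
    Cyc.DeltaCompat (p.fiberToSpecResidueField x) (fibDelta p δP δ x) (fun _ => 0) := by
  haveI := S.lft_fib x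
  obtain ⟨δs, hs⟩ := exists_deltaCompat (p.fiberToSpecResidueField x) (fun _ => 0)
  rwa [show fibDelta p δP δ x = δs from funext fun z => by
    simp only [fibDelta, delta_fibre p S.hδ x hs z]
    ring]

theorem delta_le (w : P) : δ (p w) ≤ δP w ∧ δP w ≤ δ (p w) + n := by
  haveI := S.lft_fib (p w)
  obtain ⟨Φ⟩ := S.fib (p w)
  obtain ⟨z, hz⟩ := exists_fiberι (p := p) (rfl : p w = p w)
  have h1 := Φ.delta_nonneg (S.compat_fib (p w)) z
  have h2 := (Φ.delta_le_of_mem_C (S.compat_fib (p w)) (Nat.zero_le n) (z := z) (by rw [Φ.C_zero]; trivial)).1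
  simp only [fibDelta, hz] at h1 h2
  omega

theorem top_unique {w w' : P} (e : p w' = p w) (h : δP w = δ (p w) + n) (h' : δP w' = δ (p w) + n) : w' = w := by
  haveI := S.lft_fib (p w)
  obtain ⟨Φ⟩ := S.fib (p w)
  obtain ⟨z, hz⟩ := exists_fiberι (p := p) (rfl : p w = p w)
  obtain ⟨z', hz'⟩ := exists_fiberι (p := p) e
  have g := fun v => (Φ.delta_le_of_mem_C (S.compat_fib (p w)) (Nat.zero_le n) (z := v) (by rw [Φ.C_zero]; trivial)).2
  rw [← hz, ← hz', g z (by simp only [fibDelta, hz]; omega), g z' (by simp only [fibDelta, hz']; omega)]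

theorem isShift : IsShift p δP δ n := fun w hw => by
  haveI := S.lft_fib (p w)
  obtain ⟨Φ⟩ := S.fib (p w)
  obtain ⟨z, hz⟩ := exists_fiberι (p := p) (rfl : p w = p w)
  have h1 := Φ.xi_specializes (m := 0) (z := z) (by rw [Φ.C_zero]; trivial)
  have h2 : p.fiberι (p w) (Φ.xi 0) = w := hw _ (apply_fiberι _ _) (by have := h1.map (p.fiberι (p w)).continuous; rwa [hz] at this)
  have h3 := Φ.delta_xi (S.compat_fib (p w)) (Nat.zero_le n)
  simp only [fibDelta, h2] at h3
  omega

theorem length_fibIdeal (w : P) (hw : δP w = δ (p w) + n) :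
    Module.length (P.presheaf.stalk w) (P.presheaf.stalk w ⧸ fibIdeal p w) = 1 := by
  haveI := S.lft_fib (p w)
  haveI := S.lft
  haveI := S.hX.1
  obtain ⟨Φ⟩ := S.fib (p w)
  obtain ⟨z, hz⟩ := exists_fiberι (p := p) (rfl : p w = p w)
  have hzg : z = Φ.xi 0 := (Φ.delta_le_of_mem_C (S.compat_fib (p w)) (Nat.zero_le n) (z := z)
    (by rw [Φ.C_zero]; trivial)).2 (by simp only [fibDelta, hz]; omega)
  have key : ∀ (v : P), p.fiberι (p w) z = v →
      Module.length (P.presheaf.stalk v) (P.presheaf.stalk v ⧸ fibIdeal p v) = 1 := by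
    rintro v rfl
    obtain ⟨hsurj, hker⟩ := S9501.result p (p w) z
    haveI := Φ.open_g (Fin.last n)
    have hK : IsField ((p.fiber (p w)).presheaf.stalk z) := by
      subst hzg
      have hp : pt (K := X.residueField (p w)) (n := n) 0 = genericPoint ↥(polySpec.{u} n (X.residueField (p w))) :=
        ((pt_specializes fun l hl => absurd hl (Nat.not_lt_zero _)).antisymm (genericPoint_specializes _)).eq
      refine MulEquiv.isField (B := (polySpec.{u} n (X.residueField (p w))).presheaf.stalk (pt 0)) ?_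
        (asIso ((Φ.g (Fin.last n)).stalkMap (pt 0))).commRingCatIsoToRingEquiv.toMulEquiv
      rw [hp]
      exact Field.toIsField (polySpec.{u} n (X.residueField (p w))).functionField
    haveI hmax : (fibIdeal p (p.fiberι (p w) z)).IsMaximal := by
      rw [show fibIdeal p (p.fiberι (p w) z) = RingHom.ker ((p.fiberι (p w)).stalkMap z).hom from hker.symm]
      letI := hK.toField
      exact RingHom.ker_isMaximal_of_surjective _ hsurj
    exact Module.length_eq_one_iff.2 (isSimpleModule_iff_isCoatom.2 hmax.out)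
  exact key w hz

theorem pullFun_eq (a : X → ℤ) (w : P) :
    Cyc.pullFun p δP δ n a w = if δP w = δ (p w) + n then a (p w) else 0 := by
  rw [pullFun_apply]
  split_ifs with h
  · rw [S.length_fibIdeal w h]
    simp
  · rfl

end Setting

end Groth.Agent.CycLib.PB
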